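import Cfsg.Agent.Lib.MaxSub.Extra.Gen.Root

/-!
The elements of an absolutely irreducible symplectic-type two-group span all matrices: the degree, the elements
inducing signs only, and an involution of the normaliser centralises an anticommuting pair.
-/

set_option autoImplicit false

namespace CfsgLib.MaxSub.Extra.Gen

open Matrix Subgroup

variable {F : Type*} [Field F] {ι : Type} [Fintype ι] [DecidableEq ι]

local notation "M" => Matrix ι ι F

/-- The expansion of a matrix in the elements of an absolutely irreducible group. -/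
theorem expand_of_irr {R : Subgroup (GL ι F)} [Fintype R] (hncard : (Fintype.card ι : F) ≠ 0)
    (irr : ∀ A : M, (∀ s ∈ R, A * (s : M) = (s : M) * A) → ∃ c : F, A = c • 1) (A : M) :
    ∑ r : R, ((((r : GL ι F)⁻¹ : GL ι F) : M) * A).trace • ((r : GL ι F) : M) =
      ((Nat.card R : F) * (Fintype.card ι : F)⁻¹) • A := by
  classical
  set n : F := (Fintype.card ι : F) with hn
  set N : F := (Nat.card R : F) * n⁻¹ with hN
  have avg : ∀ Y : M, ∑ r : R, ((r : GL ι F) : M) * Y * (((r : GL ι F)⁻¹ : GL ι F) : M) = (N * Y.trace) • 1 := by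
    intro Y
    set S : M := ∑ r : R, ((r : GL ι F) : M) * Y * (((r : GL ι F)⁻¹ : GL ι F) : M) with hS
    obtain ⟨c, hc⟩ := irr S fun s hs => by
      have e : (s : M) * S * (s⁻¹ : GL ι F).1 = S := by
        rw [hS, Finset.mul_sum, Finset.sum_mul]
        refine Fintype.sum_equiv (Equiv.mulLeft ⟨s, hs⟩) _ _ fun r => ?_
        show _ = ((s * (r : GL ι F) : GL ι F) : M) * Y * ((s * (r : GL ι F))⁻¹ : GL ι F).1
        simp [Matrix.mul_assoc]
      calc S * s = (s : M) * S * (s⁻¹ : GL ι F).1 * s := by rw [e]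
        _ = _ := by rw [Matrix.mul_assoc, Units.inv_mul, Matrix.mul_one]
    have e : S.trace = (Nat.card R : F) * Y.trace := by
      rw [hS, Matrix.trace_sum, Finset.sum_congr rfl fun r _ => by
        rw [Matrix.trace_mul_comm, ← Matrix.mul_assoc, Units.inv_mul, Matrix.one_mul]]
      rw [Finset.sum_const, Finset.card_univ, nsmul_eq_mul, Nat.card_eq_fintype_card]
    rw [hc, Matrix.trace_smul, Matrix.trace_one, smul_eq_mul] at e
    rw [hc]
    congr 1
    rw [hN, mul_right_comm, ← e, ← hn, mul_assoc, mul_inv_cancel₀ hncard, mul_one]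
  ext x y
  rw [Matrix.sum_apply, Matrix.smul_apply, smul_eq_mul]
  simp only [Matrix.smul_apply, smul_eq_mul, Matrix.trace, Matrix.diag, Matrix.mul_apply, Finset.sum_mul]
  rw [Finset.sum_comm, Finset.sum_congr rfl fun j _ => Finset.sum_comm]
  have key : ∀ j i, ∑ r : R, (((r : GL ι F)⁻¹ : GL ι F) : M) j i * A i j * ((r : GL ι F) : M) x y =
      A i j * (N * (if y = j then 1 else 0) * if x = i then 1 else 0) := fun j i => by
    have h := congrFun (congrFun (avg (Matrix.single y j 1)) x) i
    rw [Matrix.sum_apply, Matrix.smul_apply, smul_eq_mul, Matrix.one_apply] at h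
    have ht : (Matrix.single y j (1 : F)).trace = if y = j then 1 else 0 := by
      by_cases hyj : y = j
      · subst hyj; rw [if_pos rfl, Matrix.trace_single_eq_same]
      · rw [if_neg hyj, Matrix.trace_single_eq_of_ne _ _ _ hyj]
    rw [ht] at h
    rw [← h, Finset.mul_sum]
    refine Finset.sum_congr rfl fun r _ => ?_
    rw [Matrix.mul_assoc, Matrix.mul_apply, Finset.sum_eq_single y]
    · rw [Matrix.single_mul_apply_same]; ring
    · intro b _ hb
      rw [Matrix.single_mul_apply_of_ne _ _ _ _ _ hb, mul_zero]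
    · intro hh; exact absurd (Finset.mem_univ y) hh
  simp only [key]
  rw [Finset.sum_eq_single y, Finset.sum_eq_single x]
  · rw [if_pos rfl, if_pos rfl]; ring
  · intro b _ hb; rw [if_neg (Ne.symm hb)]; ring
  · intro hh; exact absurd (Finset.mem_univ x) hh
  · intro b _ hb
    refine Finset.sum_eq_zero fun i _ => ?_
    rw [if_neg (Ne.symm hb)]; ring
  · intro hh; exact absurd (Finset.mem_univ y) hh

/-- The degree is bounded by the order of an absolutely irreducible group of order prime to the characteristic. -/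
theorem degree_le {R : Subgroup (GL ι F)} [Finite R] [Nonempty ι] (hR : (Nat.card R : F) ≠ 0)
    (irr : ∀ A : M, (∀ s ∈ R, A * (s : M) = (s : M) * A) → ∃ c : F, A = c • 1) :
    (Fintype.card ι : F) ≠ 0 ∧ Fintype.card ι * Fintype.card ι ≤ Nat.card R := by
  classical
  haveI := Fintype.ofFinite R
  have hn : (Fintype.card ι : F) ≠ 0 := fun e0 => by
    obtain ⟨i⟩ := (inferInstance : Nonempty ι)
    set Y : M := Matrix.single i i 1
    obtain ⟨c, hc⟩ := irr (∑ r : R, ((r : GL ι F) : M) * Y * (((r : GL ι F)⁻¹ : GL ι F) : M)) fun s hs => by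
      have e : (s : M) * (∑ r : R, ((r : GL ι F) : M) * Y * (((r : GL ι F)⁻¹ : GL ι F) : M)) * (s⁻¹ : GL ι F).1 =
          ∑ r : R, ((r : GL ι F) : M) * Y * (((r : GL ι F)⁻¹ : GL ι F) : M) := by
        rw [Finset.mul_sum, Finset.sum_mul]
        refine Fintype.sum_equiv (Equiv.mulLeft ⟨s, hs⟩) _ _ fun r => ?_
        show _ = ((s * (r : GL ι F) : GL ι F) : M) * Y * ((s * (r : GL ι F))⁻¹ : GL ι F).1
        simp [Matrix.mul_assoc]
      calc (∑ r : R, ((r : GL ι F) : M) * Y * (((r : GL ι F)⁻¹ : GL ι F) : M)) * (s : M)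
          = (s : M) * (∑ r : R, ((r : GL ι F) : M) * Y * (((r : GL ι F)⁻¹ : GL ι F) : M)) *
              (s⁻¹ : GL ι F).1 * (s : M) := by rw [e]
        _ = _ := by rw [Matrix.mul_assoc, Units.inv_mul, Matrix.mul_one]
    have ht := congrArg Matrix.trace hc
    rw [Matrix.trace_sum, Finset.sum_congr rfl fun r _ => by
      rw [Matrix.trace_mul_comm, ← Matrix.mul_assoc, Units.inv_mul, Matrix.one_mul], Finset.sum_const,
      Finset.card_univ, nsmul_eq_mul, Matrix.trace_single_eq_same, mul_one, ← Nat.card_eq_fintype_card,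
      Matrix.trace_smul, Matrix.trace_one, e0, smul_zero] at ht
    exact hR ht
  refine ⟨hn, ?_⟩
  have hsp : ⊤ ≤ Submodule.span F (Set.range fun r : R => ((r : GL ι F) : M)) := fun A _ => by
    rw [← inv_smul_smul₀ (mul_ne_zero hR (inv_ne_zero hn)) A, ← expand_of_irr hn irr A]
    exact Submodule.smul_mem _ _ (Submodule.sum_mem _ fun r _ => Submodule.smul_mem _ _ (Submodule.subset_span ⟨r, rfl⟩))
  have h := (Submodule.finrank_mono hsp).trans (finrank_range_le_card (R := F) fun r : R => ((r : GL ι F) : M))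
  rw [finrank_top, Module.finrank_matrix, Module.finrank_self, mul_one] at h
  rwa [Nat.card_eq_fintype_card]

end CfsgLib.MaxSub.Extra.Gen

namespace CfsgLib.MaxSub.Extra

open Matrix Subgroup Gen

namespace Ext

variable {F : Type*} [Field F] {ι : Type} [Fintype ι] [DecidableEq ι] {R : Subgroup (GL ι F)} (X : Ext R)
include X

local notation "M" => Matrix ι ι F

theorem card_ne (h : ∃ m, Nat.card R = 2 ^ m) : (Nat.card R : F) ≠ 0 := by
  obtain ⟨m, hm⟩ := h
  rw [hm]
  push_cast
  exact pow_ne_zero m X.two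

theorem trace_zero {x : GL ι F} (hx : x ∈ R) (hn : ¬ PM x 1) : (x : M).trace = 0 := by
  obtain ⟨q, -, hq⟩ := X.anti hx hn
  have h1 : ((q : M) * x * (q⁻¹ : GL ι F).1).trace = (x : M).trace := by
    rw [Matrix.trace_mul_comm, ← Matrix.mul_assoc, Units.inv_mul, Matrix.one_mul]
  rw [show (q : M) * x = -((x : M) * q) from congrArg Units.val hq, Matrix.neg_mul, Matrix.mul_assoc, Units.mul_inv,
    Matrix.mul_one, Matrix.trace_neg] at h1
  exact mul_left_cancel₀ X.two (by rw [mul_zero]; linear_combination -h1)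

/-- The expansion of a matrix in the elements of the group. -/
theorem expand [Fintype R] (A : M) :
    ∑ r : R, ((((r : GL ι F)⁻¹ : GL ι F) : M) * A).trace • ((r : GL ι F) : M) =
      ((Nat.card R : F) * (Fintype.card ι : F)⁻¹) • A :=
  expand_of_irr X.ncard X.irr A

theorem exists_trace (h : ∃ m, Nat.card R = 2 ^ m) {A : M} (hA : A ≠ 0) :
    ∃ r ∈ R, (((r⁻¹ : GL ι F) : M) * A).trace ≠ 0 := by
  haveI := X.fin
  haveI := Fintype.ofFinite R
  by_contra! hh
  have e := X.expand A
  rw [Finset.sum_eq_zero fun (r : R) _ => by rw [hh r r.2, zero_smul]] at e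
  exact hA ((smul_eq_zero.1 e.symm).resolve_left (mul_ne_zero (X.card_ne h) (inv_ne_zero X.ncard)))

/-- A matrix commutes with whatever commutes with the elements it involves. -/
theorem comm_of_support (h : ∃ m, Nat.card R = 2 ^ m) {A : M} {s : GL ι F}
    (hs : ∀ r ∈ R, (((r⁻¹ : GL ι F) : M) * A).trace ≠ 0 → s * r = r * s) : (s : M) * A = A * s := by
  haveI := X.fin
  haveI := Fintype.ofFinite R
  refine smul_right_injective M (mul_ne_zero (X.card_ne h) (inv_ne_zero X.ncard)) ?_
  show _ • ((s : M) * A) = _ • (A * (s : M))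
  rw [← Matrix.mul_smul, ← Matrix.smul_mul, ← X.expand A, Finset.mul_sum, Finset.sum_mul]
  refine Finset.sum_congr rfl fun r _ => ?_
  rw [Matrix.mul_smul, Matrix.smul_mul]
  by_cases h0 : (((((r : GL ι F))⁻¹ : GL ι F) : M) * A).trace = 0
  · rw [h0, zero_smul, zero_smul]
  · rw [show (s : M) * (r : GL ι F).1 = (r : GL ι F).1 * s from congrArg Units.val (hs r r.2 h0)]

theorem trace_zero_of_comm {A : M} {s r : GL ι F} (hs : s ∈ R) (hr : r ∈ R) (hsA : (s : M) * A = A * s)
    (hsr : sg s r = -1) : (((r⁻¹ : GL ι F) : M) * A).trace = 0 := by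
  have hri : s * r⁻¹ = -(r⁻¹ * s) := X.anti_of_sg hs (inv_mem hr) (by rw [X.sg_inv_right hs hr, hsr])
  have h1 : ((s : M) * ((r⁻¹ : GL ι F).1 * A) * (s⁻¹ : GL ι F).1).trace = ((r⁻¹ : GL ι F).1 * A).trace := by
    rw [Matrix.trace_mul_comm, ← Matrix.mul_assoc, Units.inv_mul, Matrix.one_mul]
  rw [← Matrix.mul_assoc, show (s : M) * (r⁻¹ : GL ι F).1 = -((r⁻¹ : GL ι F).1 * s) from congrArg Units.val hri,
    Matrix.neg_mul, Matrix.mul_assoc _ (s : M), hsA, Matrix.neg_mul, ← Matrix.mul_assoc, Matrix.mul_assoc,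
    Units.mul_inv, Matrix.mul_one, Matrix.trace_neg] at h1
  exact mul_left_cancel₀ X.two (by rw [mul_zero]; linear_combination -h1)

/-- The degree is determined by the order. -/
theorem degree (h : ∃ m, Nat.card R = 2 ^ m) : Nat.card R = 2 * (Fintype.card ι * Fintype.card ι) := by
  classical
  haveI := X.fin
  haveI := Fintype.ofFinite R
  let Z : Subgroup R := (X.span 1 1 (one_mem R) (one_mem R)).subgroupOf R
  have hZ : ∀ {x : R}, x ∈ Z ↔ PM (x : GL ι F) 1 := fun {x} => by
    show PM (x : GL ι F) 1 ∨ PM (x : GL ι F) 1 ∨ PM (x : GL ι F) 1 ∨ PM (x : GL ι F) (1 * 1) ↔ _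
    rw [one_mul]
    simp
  have hZc : Nat.card Z = 2 := by
    rw [Nat.card_eq_two_iff]
    refine ⟨⟨1, one_mem Z⟩, ⟨⟨-1, X.neg⟩, hZ.2 (PM.negl 1)⟩, fun e => X.one_ne_neg
      (congrArg (fun w : Z => ((w : R) : GL ι F)) e), Set.eq_univ_iff_forall.2 fun w => ?_⟩
    rcases hZ.1 w.2 with e | e
    · exact Or.inl (Subtype.ext (Subtype.ext e))
    · exact Or.inr (Subtype.ext (Subtype.ext e))
  haveI : Fintype (R ⧸ Z) := Fintype.ofFinite _
  let v : R ⧸ Z → M := fun q => ((q.out : R) : GL ι F).1
  have hv : LinearIndependent F v := by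
    rw [Fintype.linearIndependent_iff]
    intro g hg p
    have e := congrArg (fun Y : M => ((((p.out : R) : GL ι F)⁻¹ : GL ι F).1 * Y).trace) hg
    simp only [Finset.mul_sum, Matrix.trace_sum, Matrix.mul_smul, Matrix.trace_smul, Matrix.mul_zero,
      Matrix.trace_zero] at e
    rw [Finset.sum_eq_single p] at e
    · simp only [v, Units.inv_mul, Matrix.trace_one, smul_eq_mul] at e
      exact (mul_eq_zero.1 e).resolve_right X.ncard
    · intro q _ hq
      rw [← Units.val_mul, X.trace_zero (mul_mem (inv_mem p.out.2) q.out.2) (fun hpm => hq ?_), smul_zero]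
      rw [← QuotientGroup.out_eq' p, ← QuotientGroup.out_eq' q, eq_comm, QuotientGroup.eq]
      exact hZ.2 hpm
    · exact fun hh => absurd (Finset.mem_univ p) hh
  have hsp : ⊤ ≤ Submodule.span F (Set.range v) := fun A _ => by
    have hr : ∀ r : R, ((r : GL ι F) : M) ∈ Submodule.span F (Set.range v) := fun r => by
      have hm : ((QuotientGroup.mk r : R ⧸ Z).out)⁻¹ * r ∈ Z := QuotientGroup.eq.1 (QuotientGroup.out_eq' _)
      have hv' : v (QuotientGroup.mk r) ∈ Submodule.span F (Set.range v) := Submodule.subset_span ⟨_, rfl⟩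
      rcases hZ.1 hm with e | e <;> rw [Subgroup.coe_mul, InvMemClass.coe_inv, inv_mul_eq_iff_eq_mul] at e <;> rw [e]
      · rw [mul_one]; exact hv'
      · rw [mul_neg_one, Units.val_neg]; exact neg_mem hv'
    rw [← inv_smul_smul₀ (mul_ne_zero (X.card_ne h) (inv_ne_zero X.ncard)) A, ← X.expand A]
    exact Submodule.smul_mem _ _ (Submodule.sum_mem _ fun r _ => Submodule.smul_mem _ _ (hr r))
  have hb := Module.finrank_eq_card_basis (Module.Basis.mk hv hsp)
  rw [Module.finrank_matrix, Module.finrank_self, mul_one] at hb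
  rw [Subgroup.card_eq_card_quotient_mul_card_subgroup Z, hZc, Nat.card_eq_fintype_card, ← hb, mul_comm]

/-- An element inducing signs only is a scalar times a member. -/
theorem scalar_of_trivial (h : ∃ m, Nat.card R = 2 ^ m) {y : GL ι F}
    (hy : ∀ x ∈ R, PM (y * x * y⁻¹) x) : ∃ c : F, ∃ r ∈ R, (y : M) = c • (r : M) := by
  haveI := X.nonempty
  obtain ⟨r, hr, h0⟩ := X.exists_trace h y.ne_zero
  suffices hcomm : ∀ s ∈ R, (r⁻¹ : GL ι F).1 * y.1 * (s : M) = (s : M) * ((r⁻¹ : GL ι F).1 * y.1) by
    obtain ⟨c, hc⟩ := X.irr _ hcomm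
    refine ⟨c, r, hr, ?_⟩
    have := congrArg ((r : M) * ·) hc
    simpa [← Matrix.mul_assoc] using this
  intro s hs
  suffices e : r⁻¹ * y * s = s * (r⁻¹ * y) by
    rw [← Units.val_mul, ← Units.val_mul, ← Units.val_mul, e]
  have hsr : PM (r⁻¹ * s) (s * r⁻¹) := X.comm _ (inv_mem hr) s hs
  rcases hy s hs with e | e <;> rw [mul_inv_eq_iff_eq_mul] at e <;>
    rcases hsr with e' | e'
  · rw [mul_assoc, e, ← mul_assoc, e', mul_assoc]
  · exfalso
    refine h0 ?_
    have hsg : sg s r = -1 := by
      rw [← X.sg_inv_right hs hr, sg_comm]; exact X.sg_of_anti e'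
    exact X.trace_zero_of_comm hs hr (congrArg Units.val e.symm) hsg
  · exfalso
    refine h0 ?_
    have h1 : ((r⁻¹ : GL ι F) * y) = -(s * (r⁻¹ * y) * s⁻¹) := by
      rw [← neg_mul, eq_mul_inv_iff_mul_eq, mul_assoc, e, neg_mul, mul_neg, ← mul_assoc, e', mul_assoc]
    have h2 : ((r⁻¹ : GL ι F).1 * y.1).trace = -((r⁻¹ : GL ι F).1 * y.1).trace := by
      conv_lhs => rw [← Units.val_mul, h1, Units.val_neg, Matrix.trace_neg, Units.val_mul, Matrix.trace_mul_comm,
        ← Units.val_mul, inv_mul_cancel_left, Units.val_mul]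
    exact mul_left_cancel₀ X.two (by rw [mul_zero]; linear_combination h2)
  · rw [mul_assoc, e, neg_mul, mul_neg, ← mul_assoc, e', neg_mul, neg_neg, mul_assoc]

end Ext

namespace Gen

variable {F : Type*} [Field F] {ι : Type} [Fintype ι] [DecidableEq ι] {k : ℕ} {R : Subgroup (GL ι F)}

/-- A self-adjoint involution of the normaliser centralises an anticommuting pair. -/
theorem exists_pair (S : Minus k R) {a : GL ι F} (haN : a ∈ normalizer (R : Set (GL ι F))) (haa : a * a = 1)
    (hskew : ∀ r ∈ R, r * r = -1 → (((r⁻¹ : GL ι F) : Matrix ι ι F) * (a : Matrix ι ι F)).trace = 0) :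
    ∃ g₁ ∈ R, ∃ g₂ ∈ R, g₁ * g₂ = -(g₂ * g₁) ∧ g₁ * a = a * g₁ ∧ g₂ * a = a * g₂ := by
  classical
  have X := S.ext
  haveI := X.fin
  have hpow : ∃ m, Nat.card R = 2 ^ m := ⟨_, S.card⟩
  set C := R ⊓ centralizer {a} with hC
  haveI : Finite C := Finite.of_injective _ (inclusion_injective (inf_le_left : C ≤ R))
  by_contra hno
  have hab : ∀ x ∈ C, ∀ y ∈ C, x * y = y * x := fun x hx y hy =>
    (X.comm x hx.1 y hy.1).resolve_right fun e => hno ⟨x, hx.1, y, hy.1, e, mem_centralizer_singleton_iff.1 hx.2,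
      mem_centralizer_singleton_iff.1 hy.2⟩
  let C0 : Subgroup (GL ι F) :=
    { carrier := {x | x ∈ C ∧ x * x = 1}
      one_mem' := ⟨one_mem C, one_mul 1⟩
      mul_mem' := fun {x y} hx hy => ⟨mul_mem hx.1 hy.1, by
        rw [show x * y * (x * y) = x * (y * x) * y by group, hab y hy.1 x hx.1,
          show x * (x * y) * y = (x * x) * (y * y) by group, hx.2, hy.2, one_mul]⟩
      inv_mem' := fun {x} hx => ⟨inv_mem hx.1, by rw [← _root_.mul_inv_rev, hx.2, inv_one]⟩ }
  have hC0 : C0 ≤ R := fun x hx => hx.1.1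
  haveI : Finite C0 := Finite.of_injective _ (inclusion_injective hC0)
  have hneg : -1 ∈ C0 := ⟨⟨X.neg, mem_centralizer_singleton_iff.2 (by simp)⟩, by simp⟩
  have hC2 : Nat.card C ≤ 2 * Nat.card C0 := by
    by_cases hex : ∃ e ∈ C, e * e ≠ 1
    · obtain ⟨e, he, hee⟩ := hex
      have hee := X.sq_neg he.1 hee
      let φ : C → Bool × C0 := fun x => if h : (x : GL ι F) * x = 1 then (false, ⟨x, x.2, h⟩)
        else (true, ⟨(x : GL ι F) * e, mul_mem x.2 he, by
          rw [show (x : GL ι F) * e * (x * e) = x * (e * x) * e by group, hab e he x x.2,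
            show (x : GL ι F) * (x * e) * e = (x * x) * (e * e) by group, X.sq_neg x.2.1 h, hee, neg_mul_neg,
            one_mul]⟩)
      have hφ : Function.Injective φ := fun x y e' => by
        by_cases h : (x : GL ι F) * x = 1 <;> by_cases h' : (y : GL ι F) * y = 1 <;> simp [φ, h, h'] at e'
        · exact Subtype.ext (Subtype.mk.inj e')
        · exact e'
      have := Nat.card_le_card_of_injective φ hφ
      rwa [Nat.card_prod, show Nat.card Bool = 2 by simp] at this
    · push Not at hex
      have := Subgroup.card_le_of_le (show C ≤ C0 from fun x hx => ⟨hx, hex x hx⟩)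
      omega
  -- the commutators with `a` are inverted by it
  have hinv : ∀ r ∈ R, r * a * r⁻¹ * a ∈ R ∧ a * (r * a * r⁻¹ * a) * a = (r * a * r⁻¹ * a)⁻¹ := fun r hr => by
    have hai : a⁻¹ = a := inv_eq_of_mul_eq_one_right haa
    refine ⟨?_, ?_⟩
    · rw [mul_assoc r a, mul_assoc r]
      refine mul_mem hr ?_
      have := (Subgroup.mem_normalizer_iff.1 haN _).1 (inv_mem hr)
      rwa [hai] at this
    · rw [_root_.mul_inv_rev, _root_.mul_inv_rev, _root_.mul_inv_rev, inv_inv, hai]
      rw [show a * (r * a * r⁻¹ * a) * a = a * (r * (a * (r⁻¹ * (a * a)))) by group, haa, mul_one]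
  let T := {i : R // a * (i : GL ι F) * a = (i : GL ι F)⁻¹}
  have hT : Nat.card R ≤ Nat.card C * Nat.card T := X.card_le_fibre a
    (fun r => (⟨⟨_, (hinv r r.2).1⟩, (hinv r r.2).2⟩ : T)) fun r s e =>
      mul_right_cancel (congrArg (fun i : T => ((i : R) : GL ι F)) e)
  have hTle : Nat.card T ≤ Nat.card C0 + Nat.card C := by
    have mem0 : ∀ i : T, ((i : R) : GL ι F) * (i : R) = 1 → ((i : R) : GL ι F) ∈ C0 := fun i h => by
      refine ⟨⟨(i : R).2, mem_centralizer_singleton_iff.2 ?_⟩, h⟩
      have e := i.2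
      rw [inv_eq_of_mul_eq_one_right h] at e
      calc ((i : R) : GL ι F) * a = a * (i : R) * a * a := by rw [e]
        _ = _ := by rw [mul_assoc, haa, mul_one]
    have anti : ∀ i : T, ¬ ((i : R) : GL ι F) * (i : R) = 1 →
        ((i : R) : GL ι F) * a = -(a * (i : R)) := fun i h => by
      have h2 := X.sq_neg (i : R).2 h
      have e := i.2
      rw [show ((i : R) : GL ι F)⁻¹ = -((i : R) : GL ι F) from
        inv_eq_of_mul_eq_one_right (by rw [mul_neg, h2, neg_neg])] at e
      calc ((i : R) : GL ι F) * a = -(a * (i : R) * a) * a := by rw [e, neg_neg]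
        _ = _ := by rw [neg_mul, mul_assoc, haa, mul_one]
    by_cases hex : ∃ i : T, ¬ ((i : R) : GL ι F) * (i : R) = 1
    · obtain ⟨i₀, hi₀⟩ := hex
      let φ : T → C0 ⊕ C := fun i => if h : ((i : R) : GL ι F) * (i : R) = 1 then Sum.inl ⟨_, mem0 i h⟩
        else Sum.inr ⟨((i : R) : GL ι F) * (i₀ : R), mul_mem (i : R).2 (i₀ : R).2, mem_centralizer_singleton_iff.2 (by
          rw [mul_assoc, anti i₀ hi₀, mul_neg, ← mul_assoc, anti i h, neg_mul, neg_neg, mul_assoc])⟩
      have hφ : Function.Injective φ := fun x y e' => by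
        by_cases h : ((x : R) : GL ι F) * (x : R) = 1 <;> by_cases h' : ((y : R) : GL ι F) * (y : R) = 1 <;>
          simp [φ, h, h'] at e'
        · exact Subtype.ext (Subtype.ext (Subtype.mk.inj e'))
        · exact Subtype.ext (Subtype.ext (mul_right_cancel (Subtype.mk.inj e')))
      have := Nat.card_le_card_of_injective φ hφ
      rwa [Nat.card_sum] at this
    · push Not at hex
      have := Nat.card_le_card_of_injective (fun i : T => (⟨_, mem0 i (hex i)⟩ : C0)) fun x y e' =>
        Subtype.ext (Subtype.ext (Subtype.mk.inj e'))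
      omega
  have hsupp : ∀ r ∈ R, (((r⁻¹ : GL ι F) : Matrix ι ι F) * (a : Matrix ι ι F)).trace ≠ 0 →
      r * r = 1 ∧ ∀ x ∈ C, x * r = r * x := fun r hr h0 =>
    ⟨by_contra fun h => h0 (hskew r hr (X.sq_neg hr h)), fun x hx => sg_one_iff.1 ((sg_cases x r).resolve_right
      fun h => h0 (X.trace_zero_of_comm hx.1 hr (congrArg Units.val (mem_centralizer_singleton_iff.1 hx.2)) h))⟩
  by_cases hW : ∀ v ∈ R, ∀ w ∈ R, v * v = 1 → w * w = 1 → (∀ x ∈ C, x * v = v * x) → (∀ x ∈ C, x * w = w * x) →
      v * w = w * v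
  · -- the involutions commuting with `C` lie in it, and their centraliser also
    have hin : ∀ x ∈ R, (∀ w ∈ R, w * w = 1 → (∀ y ∈ C, y * w = w * y) → x * w = w * x) → x ∈ C := fun x hx h =>
      ⟨hx, mem_centralizer_singleton_iff.2 (Units.ext (X.comm_of_support hpow fun r hr h0 =>
        h r hr (hsupp r hr h0).1 (hsupp r hr h0).2))⟩
    have hle : cen R C0 ≤ C := fun x hx => hin x (mem_cen.1 hx).1 fun w hw hww hwc =>
      ((mem_cen.1 hx).2 w ⟨hin w hw fun w' hw' hww' hwc' => hW w hw w' hw' hww hww' hwc hwc', hww⟩).symm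
    have h1 := X.cent_card hC0 hneg
    have h2 := Nat.mul_le_mul_right (Nat.card C0) (Subgroup.card_le_of_le hle)
    have h3 := S.elemk C0 hC0 fun x hx => hx.2
    have h4 : Nat.card C * Nat.card C0 ≤ 2 * 2 ^ k * 2 ^ k :=
      Nat.mul_le_mul (hC2.trans (Nat.mul_le_mul_left 2 h3)) h3
    rw [h1, S.card, pow_add, pow_one, two_mul k, pow_add] at h2
    have : 0 < 2 ^ k * 2 ^ k := by positivity
    rw [mul_assoc 2] at h4
    omega
  · push Not at hW
    obtain ⟨v, hv, w, hw, hvv, hww, hvc, hwc, hvw⟩ := hW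
    have hvC : v ∉ C := fun h => hvw (hwc v h)
    let E : Subgroup (GL ι F) :=
      { carrier := {x | x ∈ C0 ∨ x * v ∈ C0}
        one_mem' := Or.inl (one_mem C0)
        mul_mem' := fun {x y} hx hy => by
          have cm : ∀ z ∈ C0, z * v = v * z := fun z hz => hvc z hz.1
          rcases hx with hx | hx <;> rcases hy with hy | hy
          · exact Or.inl (mul_mem hx hy)
          · exact Or.inr (by rw [mul_assoc]; exact mul_mem hx hy)
          · refine Or.inr ?_
            rw [show x * y * v = x * (y * v) by group, cm y hy, ← mul_assoc]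
            exact mul_mem hx hy
          · refine Or.inl ?_
            have := mul_mem hx hy
            rwa [show x * v * (y * v) = x * (v * (y * v)) by group, ← cm _ hy,
              mul_assoc y, hvv, mul_one] at this
        inv_mem' := fun {x} hx => by
          rcases hx with hx | hx
          · exact Or.inl (inv_mem hx)
          · refine Or.inr ?_
            have hc := hvc _ hx.1
            have hi := inv_mem hx
            rw [mul_assoc, hvv, mul_one] at hc
            rw [_root_.mul_inv_rev, inv_eq_of_mul_eq_one_right hvv] at hi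
            rwa [show x⁻¹ * v = x⁻¹ * (v * (x * v)) * (x * v)⁻¹ by group, ← hc, inv_mul_cancel, one_mul,
              _root_.mul_inv_rev, inv_eq_of_mul_eq_one_right hvv] }
    have hE : E ≤ R := fun x hx => by
      rcases hx with hx | hx
      · exact hC0 hx
      · have := mul_mem (hC0 hx) hv
        rwa [mul_assoc, hvv, mul_one] at this
    haveI : Finite E := Finite.of_injective _ (inclusion_injective hE)
    have hEel : ∀ x ∈ E, x * x = 1 := fun x hx => by
      rcases hx with hx | hx
      · exact hx.2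
      · have hc := hvc _ hx.1
        rw [mul_assoc, hvv, mul_one] at hc
        have := hx.2
        rwa [show x * v * (x * v) = x * (v * (x * v)) by group, ← hc] at this
    have hEcard : 2 * Nat.card C0 ≤ Nat.card E := by
      let φ : Bool × C0 → E := fun p => ⟨if p.1 then (p.2 : GL ι F) * v else p.2, by
        by_cases h : p.1
        · rw [if_pos h]; exact Or.inr (by rw [mul_assoc, hvv, mul_one]; exact p.2.2)
        · rw [if_neg h]; exact Or.inl p.2.2⟩
      have hφ : Function.Injective φ := fun x y e' => by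
        obtain ⟨i, x⟩ := x; obtain ⟨j, y⟩ := y
        have e := congrArg Subtype.val e'
        cases i <;> cases j <;> simp only [φ, Bool.false_eq_true, if_false, if_true] at e
        · exact Prod.ext rfl (Subtype.ext e)
        · refine absurd ?_ hvC
          rw [show v = (y : GL ι F)⁻¹ * (x : GL ι F) by rw [e]; group]
          exact (mul_mem (inv_mem y.2) x.2).1
        · refine absurd ?_ hvC
          rw [show v = (x : GL ι F)⁻¹ * (y : GL ι F) by rw [← e]; group]
          exact (mul_mem (inv_mem x.2) y.2).1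
        · exact Prod.ext rfl (Subtype.ext (mul_right_cancel e))
      have := Nat.card_le_card_of_injective φ hφ
      rwa [Nat.card_prod, show Nat.card Bool = 2 by simp] at this
    have h3 := hEcard.trans (S.elemk E hE hEel)
    have h5 : Nat.card C * Nat.card T ≤ 2 * Nat.card C0 * (3 * Nat.card C0) :=
      Nat.mul_le_mul hC2 (by omega)
    have h6 : 2 * Nat.card C0 * (2 * Nat.card C0) ≤ 2 ^ k * 2 ^ k := Nat.mul_le_mul h3 h3
    rw [S.card, pow_add, pow_one, two_mul k, pow_add] at hT
    have h7 : 0 < Nat.card C0 * Nat.card C0 := Nat.mul_pos Nat.card_pos Nat.card_pos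
    nlinarith

end Gen

end CfsgLib.MaxSub.Extra
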