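import Cfsg.Agent.Lib.MaxSub.Extra.Gen.Root

/-!
A group between a two-group of minus type and its normaliser, stable under the root elements, whose members
centralising an involution of the two-group agree with it on the fixed space, induces signs only.
-/

set_option autoImplicit false

namespace CfsgLib.MaxSub.Extra.Gen

open Matrix Subgroup

variable {F : Type*} [Field F] {ι : Type} [Fintype ι] [DecidableEq ι] {k : ℕ} {R K : Subgroup (GL ι F)}

/-- The hypotheses on the kernel. -/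
structure KHyp (R K : Subgroup (GL ι F)) : Prop where
  sub : R ≤ K
  norm : ∀ y ∈ K, y ∈ normalizer (R : Set (GL ι F))
  root : ∀ a e, a ∈ R → e ∈ R → a * a = 1 → sg e a = 1 → ∀ y ∈ K, rootEl a e * y * (rootEl a e)⁻¹ ∈ K
  proj : ∀ a, IZ R a → ∀ y ∈ K, y * a = a * y → ∃ d ∈ R, d * a = a * d ∧ Ag a y d

/-- Every element of the group is fixed up to sign. -/
def Trivial (R : Subgroup (GL ι F)) (y : GL ι F) : Prop := ∀ x ∈ R, PM (y * x * y⁻¹) x

/-- On the centraliser of `a` the element multiplies by `a` what anticommutes with `u`. -/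
structure Shift (R : Subgroup (GL ι F)) (y a u : GL ι F) : Prop where
  mem : u ∈ R
  cu : sg u a = 1
  ca : PM (y * a * y⁻¹) a
  fix : ∀ b ∈ R, sg b a = 1 → sg b u = 1 → PM (y * b * y⁻¹) b
  move : ∀ b ∈ R, sg b a = 1 → sg b u = -1 → PM (y * b * y⁻¹) (a * b)

variable (S : Minus k R) (P : KHyp R K)

include S in
theorem Minus.big : 128 ≤ Nat.card R := S.ext.order

include S in
theorem Minus.exists_sq_neg {C : Subgroup (GL ι F)} (hC : C ≤ R) (h : Nat.card R ≤ Nat.card C * 8) :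
    ∃ e ∈ C, e * e = -1 := by
  by_contra! hh
  have := S.ext.elem C hC fun x hx => by_contra fun hn => hh x hx (S.ext.sq_neg (hC hx) hn)
  omega

include P in
theorem KHyp.conj_mem {y x : GL ι F} (hy : y ∈ K) (hx : x ∈ R) : y * x * y⁻¹ ∈ R :=
  (Subgroup.mem_normalizer_iff.1 (P.norm y hy) x).1 hx

include S P

/-- A member fixing an involution moves the elements commuting with it by that involution at most. -/
theorem split {a y b : GL ι F} (ha : IZ R a) (hy : y ∈ K) (hya : y * a = a * y) (hb : b ∈ R) (hba : sg b a = 1) :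
    PM (y * b * y⁻¹) b ∨ PM (y * b * y⁻¹) (a * b) := by
  have X := S.ext
  obtain ⟨d, hd, hda, hag⟩ := P.proj a ha y hy hya
  obtain ⟨d', hd', hda', hag'⟩ := P.proj (-a) (X.iz_neg ha) y hy (by rw [mul_neg, neg_mul, hya])
  have hba := sg_one_iff.1 hba
  have hba' : b * -a = -a * b := by rw [mul_neg, neg_mul, hba]
  have l1 := (hag.mul (Ag.refl b) hba).mul (hag.inv hda) (Commute.inv_left (show Commute d a from hda)).eq
  have l2 := (hag'.mul (Ag.refl b) hba').mul (hag'.inv hda') (Commute.inv_left (show Commute d' (-a) from hda')).eq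
  have sgn : ∀ c ∈ R, PM (c * b * c⁻¹) b := fun c hc => by
    have := (show PM (c * b) (b * c) from X.comm c hc b hb).mul (PM.refl c⁻¹)
    rwa [mul_inv_cancel_right] at this
  obtain ⟨g1, g2⟩ := ag_mul_self (F := F) ha.2.1
  have r1 := g1.mul (Ag.refl b) hba
  have r2 := g2.mul (Ag.refl b) hba'
  rw [one_mul] at r1
  rw [neg_one_mul] at r2
  rcases sgn d hd with e | e <;> rcases sgn d' hd' with e' | e' <;> rw [e] at l1 <;> rw [e'] at l2
  · exact Or.inl (Or.inl (Ag.eq l1 l2 X.two))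
  · exact Or.inr (Or.inl (Ag.eq (l1.trans r1.symm) (l2.trans r2.symm) X.two))
  · refine Or.inr (Or.inr (Ag.eq (z := a) (l1.trans ?_) (l2.trans ?_) X.two))
    · unfold Ag at r1; rw [Units.val_neg, Units.val_neg, Matrix.neg_mul, Matrix.neg_mul, r1]
    · unfold Ag at r2; rw [Units.val_neg (u := a * b), Matrix.neg_mul, r2, Units.val_neg, Matrix.neg_mul, neg_neg]
  · exact Or.inl (Or.inr (Ag.eq l1 l2 X.two))

theorem exists_exact {a y : GL ι F} (ha : IZ R a) (hy : y ∈ K) (hya : PM (y * a * y⁻¹) a) :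
    ∃ r ∈ R, r * y ∈ K ∧ r * y * a = a * (r * y) ∧ ∀ b, b ∈ R → PM (r * y * b * (r * y)⁻¹) (y * b * y⁻¹) := by
  have X := S.ext
  have hsg : ∀ r ∈ R, ∀ b ∈ R, PM (r * y * b * (r * y)⁻¹) (y * b * y⁻¹) := fun r hr b hb => by
    have hb' := P.conj_mem hy hb
    have := (show PM (r * (y * b * y⁻¹)) (y * b * y⁻¹ * r) from X.comm r hr _ hb').mul (PM.refl r⁻¹)
    rw [mul_inv_cancel_right] at this
    rwa [show r * y * b * (r * y)⁻¹ = r * (y * b * y⁻¹) * r⁻¹ by group]
  rcases hya with e | e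
  · exact ⟨1, one_mem R, by rwa [one_mul], by rw [one_mul]; exact mul_inv_eq_iff_eq_mul.1 e,
      hsg 1 (one_mem R)⟩
  · obtain ⟨r, hr, hra⟩ := X.anti ha.1 ha.2.2
    refine ⟨r, hr, mul_mem (P.sub hr) hy, ?_, hsg r hr⟩
    rw [mul_assoc, mul_inv_eq_iff_eq_mul.1 e, neg_mul, mul_neg, ← mul_assoc, hra, neg_mul, neg_neg, mul_assoc]

/-- A member fixing a non-central involution induces signs only, or is a shift. -/
theorem trivial_or_shift {a y : GL ι F} (ha : IZ R a) (hy : y ∈ K) (hya : PM (y * a * y⁻¹) a) :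
    Trivial R y ∨ ∃ u, Shift R y a u ∧ ¬ PM u 1 ∧ ¬ PM u a := by
  have X := S.ext
  obtain ⟨r, hr, hrK, hre, hrc⟩ := exists_exact S P ha hy hya
  have hsplit : ∀ b ∈ R, sg b a = 1 → PM (y * b * y⁻¹) b ∨ PM (y * b * y⁻¹) (a * b) := fun b hb hba =>
    (split S P ha hrK hre hb hba).imp ((hrc b hb).symm.trans) ((hrc b hb).symm.trans)
  by_cases hall : ∀ b ∈ R, sg b a = 1 → PM (y * b * y⁻¹) b
  · refine Or.inl fun x hx => ?_
    rcases sg_cases x a with hxa | hxa
    · exact hall x hx hxa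
    set x' := y * x * y⁻¹ with hx'
    have hx'R : x' ∈ R := P.conj_mem hy hx
    have hq : ∀ b ∈ R, sg b a = 1 → sg b (x' * x⁻¹) = 1 := fun b hb hba => by
      have e : sg b x' = sg b x := by
        rw [sg_comm, ← sg_pm (hall b hb hba), hx', sg_conj, sg_comm]
      rw [X.sg_mul_right hb hx'R (inv_mem hx), X.sg_inv_right hb hx, e, sg_sq]
    rcases X.cent_all ha (mul_mem hx'R (inv_mem hx)) fun b hb hba =>
      sg_one_iff.1 (hq b hb (sg_one_iff.2 hba)) with e | e
    · have := e.mul (PM.refl x)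
      rwa [inv_mul_cancel_right, one_mul] at this
    · have e2 : PM x' (a * x) := by
        have := e.mul (PM.refl x)
        rwa [inv_mul_cancel_right] at this
      exfalso
      have hax : x * a = -(a * x) := X.anti_of_sg hx ha.1 hxa
      have h1 : a * x * (a * x) = -(x * x) := by
        rw [show a * x * (a * x) = a * (x * a) * x by group, hax, mul_neg, neg_mul, ← mul_assoc, ha.2.1, one_mul]
      have h2 : x' * x' = x * x := by
        rcases X.sq x hx with e3 | e3 <;> rw [hx', show y * x * y⁻¹ * (y * x * y⁻¹) = y * (x * x) * y⁻¹ by group, e3] <;>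
          simp
      rw [e2.sq, h1] at h2
      exact X.ne_neg (x * x) h2.symm
  push Not at hall
  obtain ⟨b₀, hb₀, hb₀a, hmv⟩ := hall
  obtain ⟨w, hw, hwa⟩ := X.anti ha.1 ha.2.2
  set w' := y * w * y⁻¹ with hw'
  have hw'R : w' ∈ R := P.conj_mem hy hw
  have hwa' : sg w' a = -1 := by rw [← sg_pm hya, hw', sg_conj, X.sg_of_anti hwa]
  have hrel : ∀ b ∈ R, sg b a = 1 →
      (PM (y * b * y⁻¹) b → sg b (w' * w⁻¹) = 1) ∧ (PM (y * b * y⁻¹) (a * b) → sg b (w' * w⁻¹) = -1) :=
    fun b hb hba => by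
    have e0 : sg w' (y * b * y⁻¹) = sg b w := by rw [hw', sg_conj, sg_comm]
    rw [X.sg_mul_right hb hw'R (inv_mem hw), X.sg_inv_right hb hw]
    constructor <;> intro e <;> rw [sg_pm e] at e0
    · rw [sg_comm b w', e0, sg_sq]
    · rw [X.sg_mul_right hw'R ha.1 hb, hwa', sg_comm w' b] at e0
      have := sg_sq b w
      rcases sg_cases b w' with h | h <;> rw [h] at e0 ⊢ <;> omega
  have huR : w' * w⁻¹ ∈ R := mul_mem hw'R (inv_mem hw)
  have hub : sg b₀ (w' * w⁻¹) = -1 := (hrel b₀ hb₀ hb₀a).2 ((hsplit b₀ hb₀ hb₀a).resolve_left hmv)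
  refine Or.inr ⟨w' * w⁻¹, ⟨huR, ?_, hya, fun b hb hba hbu => ?_, fun b hb hba hbu => ?_⟩, ?_, ?_⟩
  · rw [sg_comm, X.sg_mul_right ha.1 hw'R (inv_mem hw), X.sg_inv_right ha.1 hw, sg_comm a w', hwa', sg_comm a w,
      X.sg_of_anti hwa]
    norm_num
  · refine (hsplit b hb hba).resolve_right fun e => ?_
    rw [(hrel b hb hba).2 e] at hbu
    norm_num at hbu
  · refine (hsplit b hb hba).resolve_left fun e => ?_
    rw [(hrel b hb hba).1 e] at hbu
    norm_num at hbu
  · exact not_pm_of_sg hub (sg_one_right b₀)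
  · exact not_pm_of_sg hub hb₀a

/-- Improve a shift to one whose vector squares to `-1`. -/
theorem exists_shift_neg {a y u : GL ι F} (ha : IZ R a) (hy : y ∈ K) (hs : Shift R y a u) (hu1 : ¬ PM u 1)
    (hua : ¬ PM u a) : ∃ z ∈ K, ∃ w, Shift R z a w ∧ w * w = -1 := by
  have X := S.ext
  by_cases huu : u * u = 1
  swap
  · exact ⟨y, hy, u, hs, X.sq_neg hs.mem huu⟩
  obtain ⟨b, hb, hba, hbu⟩ := X.exists_iz_anti_cent ha hs.mem (sg_one_iff.1 hs.cu) hu1 hua
  obtain ⟨e, ⟨⟨heR, hea⟩, heb⟩, hee⟩ := S.exists_sq_neg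
    (inf_le_left.trans inf_le_left : R ⊓ centralizer {a} ⊓ centralizer {b} ≤ R) (by
      have := X.half le_rfl ha.1
      have := X.half (inf_le_left : R ⊓ centralizer {a} ≤ R) hb.1
      omega)
  replace heR : e ∈ R := heR
  replace hea : sg e a = 1 := sg_one_iff.2 (mem_centralizer_singleton_iff.1 hea)
  replace heb : sg e b = 1 := sg_one_iff.2 (mem_centralizer_singleton_iff.1 heb)
  have hbR := hb.1
  have hba : sg b a = 1 := sg_one_iff.2 hba
  have hbu : sg b u = -1 := X.sg_of_anti hbu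
  set s := rootEl b e with hsdef
  have hsN : s ∈ normalizer (R : Set (GL ι F)) := X.root_norm hbR heR hb.2.1 heb
  have hsa : s * a * s⁻¹ = a :=
    X.root_fix ⟨hbR, heR, ha.1⟩ hb.2.1 heb (by rw [sg_comm, hba]) (by rw [sg_comm, hea])
  have cR : ∀ {x}, x ∈ R → s * x * s⁻¹ ∈ R := fun {x} hx => (Subgroup.mem_normalizer_iff.1 hsN x).1 hx
  set u' := s * u * s⁻¹ with hu'
  have hu'R : u' ∈ R := cR hs.mem
  have hu'a : sg u' a = 1 := by rw [← hsa, hu', sg_conj, hs.cu]
  -- the image of `u` is `u e` or `u e b` up to sign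
  have hu'2 : (u * u') * (u * u') = -1 := by
    have eb : e * b = b * e := sg_one_iff.1 heb
    obtain ⟨h1, h2⟩ := rootEl_plus X.two hb.2.1 eb
    have hub' : u * b = -(b * u) := X.anti_of_sg hs.mem hbR (by rw [sg_comm, hbu])
    have hR : u * u' ∈ R := mul_mem hs.mem hu'R
    -- on the fixed space of `b` the product is `±e`
    have hei : e⁻¹ * b = b * e⁻¹ := (Commute.inv_left (show Commute e b from eb)).eq
    have i1 := h1.inv eb
    have hm : (s : Matrix ι ι F) * minus b = minus b := by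
      have := h2; rw [Ag, plus_neg, Units.val_one, Matrix.one_mul] at this; exact this
    have k1 : Ag b u' (u * e⁻¹) := by
      have l : (s : Matrix ι ι F) * (u : Matrix ι ι F) * plus b = (u : Matrix ι ι F) * plus b := by
        rw [Matrix.mul_assoc, (plus_anti hub').1, ← Matrix.mul_assoc, hm]
      unfold Ag at i1 ⊢
      rw [hu', Units.val_mul, Units.val_mul, Units.val_mul, Matrix.mul_assoc, i1, (plus_comm hei).1,
        ← Matrix.mul_assoc, l, Matrix.mul_assoc, ← (plus_comm hei).1, ← Matrix.mul_assoc]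
    refine X.sq_neg hR fun e1 => ?_
    have k2 : Ag b (u * u') e⁻¹ := by
      unfold Ag at k1 ⊢
      rw [Units.val_mul, Matrix.mul_assoc, k1, ← Matrix.mul_assoc, ← Units.val_mul, ← mul_assoc u u, huu, one_mul]
    have k3 := k2.mul k2 hei
    rw [e1, show e⁻¹ * e⁻¹ = -1 by
      rw [show e⁻¹ = -e from inv_eq_of_mul_eq_one_right (by rw [mul_neg, hee, neg_neg]), neg_mul_neg, hee]] at k3
    unfold Ag at k3
    rw [Units.val_one, Matrix.one_mul, Units.val_neg, Units.val_one, Matrix.neg_mul, Matrix.one_mul] at k3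
    refine plus_ne_zero hb ?_
    have h0 : (2 : F) • plus b = 0 := by rw [two_smul]; nth_rw 2 [k3]; exact add_neg_cancel _
    exact (smul_eq_zero.1 h0).resolve_left X.two
  have hsb : ∀ x ∈ R, sg x a = 1 →
      (sg x u' = 1 → PM (s * y * s⁻¹ * x * (s * y * s⁻¹)⁻¹) x) ∧
      (sg x u' = -1 → PM (s * y * s⁻¹ * x * (s * y * s⁻¹)⁻¹) (a * x)) := fun x hx hxa => by
    set x₀ := s⁻¹ * x * s
    have e : x = s * x₀ * s⁻¹ := by simp only [x₀]; group
    have hx₀ : x₀ ∈ R := (Subgroup.mem_normalizer_iff.1 hsN x₀).2 (e ▸ hx)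
    have ha₀ : sg x₀ a = 1 := by rw [← sg_conj s, ← e, hsa, hxa]
    have hu₀ : sg x₀ u = sg x u' := by rw [← sg_conj s, ← e]
    rw [show s * y * s⁻¹ * x * (s * y * s⁻¹)⁻¹ = s * (y * x₀ * y⁻¹) * s⁻¹ by simp only [x₀]; group]
    constructor <;> intro hxu <;> rw [hxu] at hu₀
    · have := (hs.fix x₀ hx₀ ha₀ hu₀).conj s
      rwa [← e] at this
    · have := (hs.move x₀ hx₀ ha₀ hu₀).conj s
      rwa [show s * (a * x₀) * s⁻¹ = s * a * s⁻¹ * (s * x₀ * s⁻¹) by group, hsa, ← e] at this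
  have hya : ∀ x, PM (y * (a * x) * y⁻¹) (a * (y * x * y⁻¹)) := fun x => by
    rw [show y * (a * x) * y⁻¹ = y * a * y⁻¹ * (y * x * y⁻¹) by group]
    exact hs.ca.mul (PM.refl _)
  have haa : ∀ x, PM (a * (a * x)) x := fun x => by
    rw [← mul_assoc, ha.2.1, one_mul]; exact PM.refl x
  refine ⟨y * (s * y * s⁻¹), mul_mem hy (P.root b e hbR heR hb.2.1 heb y hy), u * u',
    ⟨mul_mem hs.mem hu'R, ?_, ?_, fun x hx hxa hxu => ?_, fun x hx hxa hxu => ?_⟩, hu'2⟩
  · rw [X.sg_mul_left hs.mem hu'R ha.1, hs.cu, hu'a, one_mul]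
  · have h := hs.ca.conj s
    rw [hsa, show s * (y * a * y⁻¹) * s⁻¹ = s * y * s⁻¹ * (s * a * s⁻¹) * (s * y * s⁻¹)⁻¹ by group, hsa] at h
    have := (h.conj y).trans hs.ca
    rwa [show y * (s * y * s⁻¹ * a * (s * y * s⁻¹)⁻¹) * y⁻¹ =
      y * (s * y * s⁻¹) * a * (y * (s * y * s⁻¹))⁻¹ by group] at this
  all_goals
    rw [show y * (s * y * s⁻¹) * x * (y * (s * y * s⁻¹))⁻¹ =
      y * (s * y * s⁻¹ * x * (s * y * s⁻¹)⁻¹) * y⁻¹ by group]
    rw [X.sg_mul_right hx hs.mem hu'R] at hxu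
    rcases sg_cases x u with h | h <;> rcases sg_cases x u' with h' | h' <;> rw [h, h'] at hxu <;>
      norm_num at hxu
  · exact ((((hsb x hx hxa).1 h').conj y).trans (hs.fix x hx hxa h))
  · exact ((((hsb x hx hxa).2 h').conj y).trans ((hya x).trans
      (((PM.refl a).mul (hs.move x hx hxa h)).trans (haa x))))
  · exact ((((hsb x hx hxa).2 h').conj y).trans ((hya x).trans ((PM.refl a).mul (hs.fix x hx hxa h))))
  · exact ((((hsb x hx hxa).1 h').conj y).trans (hs.move x hx hxa h))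

/-- A shift by an element squaring to `-1` does not occur. -/
theorem no_shift {a y u : GL ι F} (ha : IZ R a) (hy : y ∈ K) (hs : Shift R y a u) (huu : u * u = -1) : False := by
  have X := S.ext
  have hu1 : ¬ PM u 1 := fun e => by rw [e.sq, one_mul] at huu; exact X.one_ne_neg huu
  have hua : ¬ PM u a := fun e => by rw [e.sq, ha.2.1] at huu; exact X.one_ne_neg huu
  -- an element anticommuting with `a` and commuting with `u`
  obtain ⟨r, hr, hru, hra⟩ := X.exists_anti_cent (X.span_le hs.mem (one_mem R)) (X.span_neg hs.mem (one_mem R))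
    ha.1 (fun h => by
      rcases h with e | e | e | e
      · exact ha.2.2 e
      · exact hua e.symm
      · exact ha.2.2 e
      · rw [mul_one] at e; exact hua e.symm)
  replace hru := hru u (Or.inr (Or.inl (PM.refl u)))
  obtain ⟨c, ⟨⟨⟨hcR, hca⟩, hcu⟩, hcr⟩, hc⟩ := X.exists_iz
    (inf_le_left.trans (inf_le_left.trans inf_le_left) :
      R ⊓ centralizer {a} ⊓ centralizer {u} ⊓ centralizer {r} ≤ R) (by
      have := X.half le_rfl ha.1
      have := X.half (inf_le_left : R ⊓ centralizer {a} ≤ R) hs.mem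
      have := X.half (inf_le_left.trans inf_le_left : R ⊓ centralizer {a} ⊓ centralizer {u} ≤ R) hr
      have := X.order
      omega)
  have hca := sg_one_iff.2 (mem_centralizer_singleton_iff.1 hca)
  have hcu := sg_one_iff.2 (mem_centralizer_singleton_iff.1 hcu)
  have hcr := sg_one_iff.2 (mem_centralizer_singleton_iff.1 hcr)
  have hca' : ¬ PM c a := fun e => by
    rw [sg_comm, sg_pm e, hra] at hcr; norm_num at hcr
  obtain ⟨b, hb, hbE, hbu⟩ := X.exists_anti_cent (X.span_le ha.1 hc.1) (X.span_neg ha.1 hc.1) hs.mem (fun h => by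
    rcases h with e | e | e | e
    · exact hu1 e
    · exact hua e
    · rw [e.sq, hc.2.1] at huu; exact X.one_ne_neg huu
    · rw [e.sq, show a * c * (a * c) = a * (c * a) * c by group, sg_one_iff.1 hca,
        show a * (a * c) * c = (a * a) * (c * c) by group, ha.2.1, hc.2.1, one_mul] at huu
      exact X.one_ne_neg huu)
  have hba := hbE a (Or.inr (Or.inl (PM.refl a)))
  have hbc := hbE c (Or.inr (Or.inr (Or.inl (PM.refl c))))
  obtain ⟨t, ht, htK, hte, htc⟩ := exists_exact S P hc hy (hs.fix c hc.1 hca hcu)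
  have hmv := hs.move b hb hba hbu
  rcases split S P hc htK hte hb hbc with e | e
  · have e' := (hmv.symm.trans ((htc b hb).symm.trans e)).mul (PM.refl b⁻¹)
    rw [mul_inv_cancel_right, mul_inv_cancel] at e'
    exact ha.2.2 e'
  · have e' := (hmv.symm.trans ((htc b hb).symm.trans e)).mul (PM.refl b⁻¹)
    rw [mul_inv_cancel_right, mul_inv_cancel_right] at e'
    exact hca' e'.symm

/-- A member fixing a non-central involution induces signs only. -/
theorem trivial_of_fix {a y : GL ι F} (ha : IZ R a) (hy : y ∈ K) (hya : PM (y * a * y⁻¹) a) : Trivial R y := by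
  rcases trivial_or_shift S P ha hy hya with h | ⟨u, hs, hu1, hua⟩
  · exact h
  · obtain ⟨z, hz, w, hw, hww⟩ := exists_shift_neg S P ha hy hs hu1 hua
    exact (no_shift S P ha hz hw hww).elim

/-- Every member induces signs only. -/
theorem kernel_trivial {y : GL ι F} (hy : y ∈ K) : Trivial R y := by
  have X := S.ext
  obtain ⟨a₀, -, ha₀⟩ := X.exists_iz le_rfl (lt_of_lt_of_le (by norm_num) X.order)
  by_contra hne
  have hmove : ∀ a, IZ R a → ¬ PM (y * a * y⁻¹) a := fun a ha e => hne (trivial_of_fix S P ha hy e)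
  -- a non-central involution commuting with its image
  obtain ⟨a, ha, hcom⟩ : ∃ a, IZ R a ∧ sg a (y * a * y⁻¹) = 1 := by
    rcases sg_cases a₀ (y * a₀ * y⁻¹) with h | h
    · exact ⟨a₀, ha₀, h⟩
    set a₁ := y * a₀ * y⁻¹ with ha₁
    set a₂ := y⁻¹ * a₀ * y with ha₂
    have h1R : a₁ ∈ R := P.conj_mem hy ha₀.1
    have h2R : a₂ ∈ R := by
      have := P.conj_mem (inv_mem hy) ha₀.1
      rwa [inv_inv] at this
    obtain ⟨r, hr, hra⟩ := X.anti ha₀.1 ha₀.2.2
    obtain ⟨b, ⟨⟨⟨hbR, hb0⟩, hbr⟩, hbq⟩, hb⟩ := X.exists_iz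
      (inf_le_left.trans (inf_le_left.trans inf_le_left) :
        R ⊓ centralizer {a₀} ⊓ centralizer {r} ⊓ centralizer {a₁ * a₂} ≤ R) (by
        have := X.half le_rfl ha₀.1
        have := X.half (inf_le_left : R ⊓ centralizer {a₀} ≤ R) hr
        have := X.half (inf_le_left.trans inf_le_left : R ⊓ centralizer {a₀} ⊓ centralizer {r} ≤ R)
          (mul_mem h1R h2R)
        have := X.order
        omega)
    have hb0 := mem_centralizer_singleton_iff.1 hb0
    have hbr := sg_one_iff.2 (mem_centralizer_singleton_iff.1 hbr)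
    have hbq := sg_one_iff.2 (mem_centralizer_singleton_iff.1 hbq)
    set b₁ := y * b * y⁻¹ with hb₁
    have hb1R : b₁ ∈ R := P.conj_mem hy hb.1
    rcases sg_cases b b₁ with h' | h'
    · exact ⟨b, hb, h'⟩
    have hiz : IZ R (a₀ * b) := ⟨mul_mem ha₀.1 hb.1, by
      rw [show a₀ * b * (a₀ * b) = a₀ * (b * a₀) * b by group, hb0,
        show a₀ * (a₀ * b) * b = (a₀ * a₀) * (b * b) by group, ha₀.2.1, hb.2.1, one_mul], fun e => by
      have h3 : sg r (a₀ * b) = -1 := by
        rw [X.sg_mul_right hr ha₀.1 hb.1, X.sg_of_anti hra, sg_comm r b, hbr]; norm_num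
      rw [sg_pm e, sg_one_right] at h3
      norm_num at h3⟩
    refine ⟨a₀ * b, hiz, ?_⟩
    have e1 : y * (a₀ * b) * y⁻¹ = a₁ * b₁ := by rw [ha₁, hb₁]; group
    have e2 : sg a₀ b₁ = sg b a₂ := by
      rw [← sg_conj y⁻¹, sg_comm]
      congr 1
      rw [hb₁]; group
    have e3 : sg b a₁ = sg b a₂ := by
      have e4 := X.sg_mul_right hb.1 h1R h2R
      rw [hbq] at e4
      rcases sg_cases b a₁ with h5 | h5 <;> rcases sg_cases b a₂ with h6 | h6 <;> rw [h5, h6] at e4 ⊢ <;>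
        norm_num at e4
    rw [e1, X.sg_mul_left ha₀.1 hb.1 (mul_mem h1R hb1R), X.sg_mul_right ha₀.1 h1R hb1R,
      X.sg_mul_right hb.1 h1R hb1R, h, h', e2, e3]
    have := sg_sq b a₂
    rcases sg_cases b a₂ with h5 | h5 <;> rw [h5] <;> norm_num
  set a₁ := y * a * y⁻¹ with ha₁
  set a₂ := y⁻¹ * a * y with ha₂
  have h1R : a₁ ∈ R := P.conj_mem hy ha.1
  have h2R : a₂ ∈ R := by
    have := P.conj_mem (inv_mem hy) ha.1
    rwa [inv_inv] at this
  have h1sq : a₁ * a₁ = 1 := by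
    rw [ha₁, show y * a * y⁻¹ * (y * a * y⁻¹) = y * (a * a) * y⁻¹ by group, ha.2.1, mul_one, mul_inv_cancel]
  have hne1 : ¬ PM a₁ a := hmove a ha
  obtain ⟨e, ⟨⟨heR, hea⟩, he2⟩, heE⟩ : ∃ e ∈ R ⊓ centralizer {a} ⊓ centralizer {a₂}, e ∉ X.span a a₁ ha.1 h1R := by
    by_contra! hh
    haveI := X.fin
    haveI : Finite ↥(X.span a a₁ ha.1 h1R) := Finite.of_injective _ (inclusion_injective (X.span_le ha.1 h1R))
    have := (Subgroup.card_le_of_le hh).trans (X.span_card ha.1 h1R)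
    have := X.half le_rfl ha.1
    have := X.half (inf_le_left : R ⊓ centralizer {a} ≤ R) h2R
    have := X.order
    omega
  replace heR : e ∈ R := heR
  have hea : sg e a = 1 := sg_one_iff.2 (mem_centralizer_singleton_iff.1 hea)
  have he2 : sg e a₂ = 1 := sg_one_iff.2 (mem_centralizer_singleton_iff.1 he2)
  obtain ⟨x, hx, hxE, hxe⟩ := X.exists_anti_cent (X.span_le ha.1 h1R) (X.span_neg ha.1 h1R) heR heE
  have hxa := hxE a (Or.inr (Or.inl (PM.refl a)))
  have hx1 := hxE a₁ (Or.inr (Or.inr (Or.inl (PM.refl a₁))))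
  set e₁ := y * e * y⁻¹ with he₁
  have he1R : e₁ ∈ R := P.conj_mem hy heR
  have h11 : sg e₁ a₁ = 1 := by rw [he₁, ha₁, sg_conj, hea]
  have h10 : sg e₁ a = 1 := by
    have := sg_conj y e a₂
    rw [he2, show y * a₂ * y⁻¹ = a by rw [ha₂]; group] at this
    exact this
  set s := rootEl a e
  set t := rootEl a₁ e₁
  have hy' : y * s * y⁻¹ = t := rootEl_conj X.two ha.2.1 (sg_one_iff.1 hea) y
  have hg : t * s⁻¹ ∈ K := by
    rw [← hy', show y * s * y⁻¹ * s⁻¹ = y * (s * y⁻¹ * s⁻¹) by group]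
    exact mul_mem hy (P.root a e ha.1 heR ha.2.1 hea _ (inv_mem hy))
  have hsa : s * a * s⁻¹ = a := X.root_fix ⟨ha.1, heR, ha.1⟩ ha.2.1 hea (sg_self a) (by rw [sg_comm, hea])
  have hsa' : s⁻¹ * a * s = a := by
    conv_lhs => rw [← hsa]
    group
  have hta : t * a * t⁻¹ = a := X.root_fix ⟨h1R, he1R, ha.1⟩ h1sq h11 hcom (by rw [sg_comm, h10])
  have htriv := trivial_of_fix S P ha hg (Or.inl (by
    rw [show t * s⁻¹ * a * (t * s⁻¹)⁻¹ = t * (s⁻¹ * a * s) * t⁻¹ by group, hsa', hta])) x hx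
  have hax : a * x ∈ R := mul_mem ha.1 hx
  have hsx : PM (s⁻¹ * x * s) (a * x) := by
    have h := X.root_move ⟨ha.1, heR, hax⟩ ha.2.1 hea (by rw [X.sg_mul_left ha.1 hx ha.1, sg_self, hxa, one_mul])
      (by rw [X.sg_mul_left ha.1 hx heR, sg_comm a e, hea, hxe, one_mul])
    have h := h.trans (show PM (a * (a * x)) x by rw [← mul_assoc, ha.2.1, one_mul]; exact PM.refl x)
    have := (h.symm).conj s⁻¹
    rwa [inv_inv, show s⁻¹ * (s * (a * x) * s⁻¹) * s = a * x by group] at this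
  have hfin : PM (t * (a * x) * t⁻¹) x := by
    have := (hsx.conj t).symm
    rw [show t * (s⁻¹ * x * s) * t⁻¹ = t * s⁻¹ * x * (t * s⁻¹)⁻¹ by group] at this
    exact this.trans htriv
  have hax1 : sg (a * x) a₁ = 1 := by rw [X.sg_mul_left ha.1 hx h1R, hcom, hx1, one_mul]
  rcases sg_cases (a * x) e₁ with hh | hh
  · rw [X.root_fix ⟨h1R, he1R, hax⟩ h1sq h11 hax1 hh] at hfin
    have e' := hfin.mul (PM.refl x⁻¹)
    rw [mul_inv_cancel_right, mul_inv_cancel] at e'
    exact ha.2.2 e'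
  · have e' := ((X.root_move ⟨h1R, he1R, hax⟩ h1sq h11 hax1 hh).symm.trans hfin).mul (PM.refl x⁻¹)
    rw [← mul_assoc, mul_inv_cancel_right, mul_inv_cancel] at e'
    have e'' := e'.mul (PM.refl a)
    rw [mul_assoc, ha.2.1, mul_one, one_mul] at e''
    exact hne1 e''

end CfsgLib.MaxSub.Extra.Gen
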