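import Cfsg.Agent.Lib.MaxSub.Extra.Gen.Std
import Cfsg.Agent.Lib.MaxSub.Extra.Gen.Kernel
import Cfsg.Agent.Lib.MaxSub.WreathMaximalSp

/-!
A proper overgroup of the normaliser of a group of minus type in the symplectic group has the local properties, given
the same theorem one size lower.
-/

set_option autoImplicit false

namespace CfsgLib.MaxSub.Extra.Gen

open Matrix Subgroup
open scoped commutatorElement

variable {F : Type*} [Field F]

theorem mem_conj {G : Type*} [Group G] {R : Subgroup G} {g x : G} :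
    x ∈ R.map (MulAut.conj g).toMonoidHom ↔ g⁻¹ * x * g ∈ R := by
  rw [Subgroup.mem_map_equiv, MulAut.conj_symm_apply]

theorem mem_conj_norm {G : Type*} [Group G] {R : Subgroup G} {g x : G} :
    x ∈ normalizer (R.map (MulAut.conj g).toMonoidHom : Set G) ↔ g⁻¹ * x * g ∈ normalizer (R : Set G) := by
  rw [Subgroup.mem_normalizer_iff, Subgroup.mem_normalizer_iff]
  constructor
  · intro h y
    have := h (g * y * g⁻¹)
    rw [mem_conj, mem_conj, show g⁻¹ * (g * y * g⁻¹) * g = y by group] at this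
    rw [this]
    exact iff_of_eq (congrArg (· ∈ R) (by group))
  · intro h y
    rw [mem_conj, mem_conj, h (g⁻¹ * y * g)]
    exact iff_of_eq (congrArg (· ∈ R) (by group))

variable [Fintype F]

/-- Every proper overgroup of the normaliser of a group of minus type of order `2^(1+2k)` normalises it. -/
def MaxAt (F : Type*) [Field F] [Fintype F] (k m : ℕ) : Prop :=
  ∀ R H : Subgroup (GL (Fin m ⊕ Fin m) F), Minus k R → R ≤ Cfsg.spGL m F →
    normalizer (R : Set (GL (Fin m ⊕ Fin m) F)) ⊓ Cfsg.spGL m F ≤ H → H ≤ Cfsg.spGL m F →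
    H ≠ Cfsg.spGL m F → H ≤ normalizer (R : Set (GL (Fin m ⊕ Fin m) F))

theorem Minus.conj {ι : Type} [Fintype ι] [DecidableEq ι] {k : ℕ} {R : Subgroup (GL ι F)} (S : Minus k R)
    (g : GL ι F) : Minus k (R.map (MulAut.conj g).toMonoidHom) := by
  refine ⟨S.ext.conj g, ?_, S.le, fun C hC hinv => ?_⟩
  · rw [← S.card]
    exact (Nat.card_congr (R.equivMapOfInjective _ (MulAut.conj g).injective).toEquiv).symm
  · have e : C = (C.comap (MulAut.conj g).toMonoidHom).map (MulAut.conj g).toMonoidHom :=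
      (map_comap_eq_self_of_surjective (MulAut.conj g).surjective C).symm
    rw [e, ← Nat.card_congr (Subgroup.equivMapOfInjective _ (MulAut.conj g).toMonoidHom (MulAut.conj g).injective).toEquiv]
    refine S.elemk _ (fun y hy => ?_) fun y hy => (MulAut.conj g).injective (by
      rw [map_mul, map_one]; exact hinv _ hy)
    obtain ⟨a, ha, e'⟩ := hC hy
    rwa [← (MulAut.conj g).injective e']

variable {k m : ℕ}

local notation "M4" => Matrix (Fin m ⊕ Fin m) (Fin m ⊕ Fin m) F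
local notation "M8" => Matrix (Fin (m + m) ⊕ Fin (m + m)) (Fin (m + m) ⊕ Fin (m + m)) F
local notation "V8" => (Fin (m + m) ⊕ Fin (m + m) → F)
local notation "GL4" => GL (Fin m ⊕ Fin m) F
local notation "GL8" => GL (Fin (m + m) ⊕ Fin (m + m)) F
local notation "J4" => Matrix.J (Fin m) F

theorem rootEl_sp (h2 : (2 : F) ≠ 0) {a e : GL4} (ha : a ∈ Cfsg.spGL m F) (he : e ∈ Cfsg.spGL m F)
    (haa : a * a = 1) (hea : e * a = a * e) : rootEl a e ∈ Cfsg.spGL m F := by
  have hcross : ∀ {g : GL4}, g ∈ Cfsg.spGL m F → g.1ᵀ * J4 = J4 * (g⁻¹).1 := fun {g} hg => by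
    calc g.1ᵀ * J4 = g.1ᵀ * J4 * g.1 * (g⁻¹).1 := by rw [Matrix.mul_assoc _ g.1, Units.mul_inv, Matrix.mul_one]
      _ = _ := by rw [(mem_sp g).1 hg]
  have e1 := hcross ha
  have e2 := hcross he
  rw [inv_eq_of_mul_eq_one_right haa] at e1
  have hei : e⁻¹ * a = a * e⁻¹ := (Commute.inv_left (show Commute e a from hea)).eq
  have hp : (plus a)ᵀ * J4 = J4 * plus a ∧ (minus a)ᵀ * J4 = J4 * minus a := by
    constructor <;>
      simp [plus, minus, Matrix.transpose_add, Matrix.transpose_sub, Matrix.add_mul, Matrix.sub_mul, Matrix.mul_add,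
        Matrix.mul_sub, e1]
  have h : (rootEl a e).1ᵀ * J4 = J4 * rootMat a e⁻¹ := by
    rw [rootEl_val h2 haa hea, rootMat, rootMat, Matrix.transpose_smul, Matrix.transpose_add, Matrix.transpose_mul,
      Matrix.smul_mul, Matrix.mul_smul, Matrix.add_mul, Matrix.mul_add, hp.2, Matrix.mul_assoc, e2,
      ← Matrix.mul_assoc, hp.1, Matrix.mul_assoc, ← (plus_comm hei).1]
  rw [mem_sp, h, Matrix.mul_assoc, rootEl_val h2 haa hea,
    root_inv_mul h2 haa hea (inv_mul_cancel e), Matrix.mul_one]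

theorem sp_normal_top (hm : 3 ≤ m) {N : Subgroup (Cfsg.spGL m F)} (hN : N.Normal)
    (hn : ∃ e ∈ N, ∃ y : Cfsg.spGL m F, e * y ≠ y * e) : N = ⊤ := by
  set φ := SympSimple.toSpGL (F := F) (m := m)
  have hφ : Function.Surjective φ := SympSimple.toSpGL_surjective
  suffices h : N.comap φ = ⊤ by
    refine eq_top_iff.2 fun x _ => ?_
    obtain ⟨x', rfl⟩ := hφ x
    exact Subgroup.mem_comap.1 (h ▸ Subgroup.mem_top x')
  haveI : (N.comap φ).Normal := hN.comap φ
  obtain ⟨e, he, y, hy⟩ := hn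
  obtain ⟨e', rfl⟩ := hφ e
  obtain ⟨y', rfl⟩ := hφ y
  haveI hs : IsSimpleGroup (Cfsg.PSp m F) := SympSimple.simple (by omega) fun h => absurd h (by omega)
  have hperf : commutator (Matrix.symplecticGroup (Fin m) F) = ⊤ :=
    SympSimple.perfect_fintype (Or.inl hm)
  set Z := Subgroup.center (Matrix.symplecticGroup (Fin m) F) with hZ
  have hsup : N.comap φ ⊔ Z = ⊤ := by
    have hnormal : ((N.comap φ).map (QuotientGroup.mk' Z)).Normal :=
      Normal.map inferInstance _ (QuotientGroup.mk'_surjective Z)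
    rcases hs.eq_bot_or_eq_top_of_normal _ hnormal with h | h
    · exfalso
      have hmem : QuotientGroup.mk' Z e' ∈ (N.comap φ).map (QuotientGroup.mk' Z) := Subgroup.mem_map_of_mem _ he
      erw [h, Subgroup.mem_bot] at hmem
      have := (QuotientGroup.eq_one_iff e').1 hmem
      exact hy (by rw [← map_mul, ← map_mul, Subgroup.mem_center_iff.1 this y'])
    · refine eq_top_iff.2 fun x _ => ?_
      have hmem : QuotientGroup.mk' Z x ∈ (N.comap φ).map (QuotientGroup.mk' Z) := by erw [h]; exact Subgroup.mem_top _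
      obtain ⟨n, hn, e⟩ := Subgroup.mem_map.1 hmem
      rw [show x = n * (n⁻¹ * x) by group]
      exact mul_mem (Subgroup.mem_sup_left hn) (Subgroup.mem_sup_right (QuotientGroup.eq.1 e))
  refine eq_top_iff.2 (hperf ▸ ?_)
  rw [_root_.commutator_def, Subgroup.commutator_le]
  intro a _ b _
  have ha : a ∈ N.comap φ ⊔ Z := hsup ▸ Subgroup.mem_top a
  have hb : b ∈ N.comap φ ⊔ Z := hsup ▸ Subgroup.mem_top b
  obtain ⟨n, hn, c, hc, rfl⟩ := Subgroup.mem_sup_of_normal_left.1 ha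
  obtain ⟨m, hm, d, hd, rfl⟩ := Subgroup.mem_sup_of_normal_left.1 hb
  have hc' : ∀ w, w * c = c * w := Subgroup.mem_center_iff.1 hc
  have hd' : ∀ w, w * d = d * w := Subgroup.mem_center_iff.1 hd
  have e : ⁅n * c, m * d⁆ = n * m * n⁻¹ * m⁻¹ := by
    rw [commutatorElement_def]
    calc n * c * (m * d) * (n * c)⁻¹ * (m * d)⁻¹ = n * (c * (m * d)) * c⁻¹ * n⁻¹ * d⁻¹ * m⁻¹ := by group
      _ = n * (m * d) * n⁻¹ * d⁻¹ * m⁻¹ := by rw [← hc' (m * d)]; group
      _ = n * m * (d * n⁻¹) * d⁻¹ * m⁻¹ := by group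
      _ = _ := by rw [← hd' n⁻¹]; group
  rw [e]
  exact mul_mem (mul_mem (mul_mem hn hm) (inv_mem hn)) (inv_mem hm)

/-- A group of minus type is not normal in the symplectic group. -/
theorem normalizer_ne (hm : 3 ≤ m) {R : Subgroup GL4} (S : Minus k R) (hR : R ≤ Cfsg.spGL m F) :
    ¬ Cfsg.spGL m F ≤ normalizer (R : Set GL4) := by
  intro hall
  have X := S.ext
  haveI := X.fin
  obtain ⟨a, -, ha⟩ := X.exists_iz le_rfl (lt_of_lt_of_le (by norm_num) X.order)
  obtain ⟨t, ht, hta⟩ := X.anti ha.1 ha.2.2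
  have htop := sp_normal_top hm (N := R.subgroupOf (Cfsg.spGL m F)) ⟨fun n hn g => Subgroup.mem_subgroupOf.2
    ((Subgroup.mem_normalizer_iff.1 (hall g.2) _).1 (Subgroup.mem_subgroupOf.1 hn))⟩
    ⟨⟨a, hR ha.1⟩, Subgroup.mem_subgroupOf.2 ha.1, ⟨t, hR ht⟩, fun e => by
      have e2 : a * t = t * a := congrArg Subtype.val e
      rw [hta] at e2
      exact X.ne_neg _ e2⟩
  obtain ⟨e, ⟨heR, hea⟩, heE⟩ : ∃ e ∈ R ⊓ centralizer {a}, e ∉ X.span a a ha.1 ha.1 := by
    by_contra! hh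
    haveI : Finite ↥(X.span a a ha.1 ha.1) := Finite.of_injective _ (inclusion_injective (X.span_le ha.1 ha.1))
    have := (Subgroup.card_le_of_le hh).trans (X.span_card ha.1 ha.1)
    have := X.half le_rfl ha.1
    have := X.order
    omega
  replace heR : e ∈ R := heR
  have hea := mem_centralizer_singleton_iff.1 hea
  obtain ⟨x, hx, hxE, hxe⟩ := X.exists_anti_cent (X.span_le ha.1 ha.1) (X.span_neg ha.1 ha.1) heR heE
  have hxa := hxE a (Or.inr (Or.inl (PM.refl a)))
  have hs : rootEl a e ∈ R := Subgroup.mem_subgroupOf.1 (htop.ge (Subgroup.mem_top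
    (⟨rootEl a e, rootEl_sp X.two (hR ha.1) (hR heR) ha.2.1 hea⟩ : Cfsg.spGL m F)))
  have h1 := (X.root_move ⟨ha.1, heR, hx⟩ ha.2.1 (sg_one_iff.2 hea) hxa hxe).symm
  have h2 := h1.trans (show PM (rootEl a e * x * (rootEl a e)⁻¹) x from by
    have := (show PM (rootEl a e * x) (x * rootEl a e) from X.comm _ hs x hx).mul (PM.refl (rootEl a e)⁻¹)
    rwa [mul_inv_cancel_right] at this)
  have h3 := h2.mul (PM.refl x⁻¹)
  rw [mul_inv_cancel_right, mul_inv_cancel] at h3
  exact ha.2.2 h3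

/-- A proper overgroup of the normaliser, with the theorem one size lower. -/
structure Over (k : ℕ) (R H : Subgroup (GL (Fin (m + m) ⊕ Fin (m + m)) F)) : Prop where
  rank : 3 ≤ k
  size : 3 ≤ m
  below : MaxAt F k m
  mty : Minus (k + 1) R
  le : R ≤ Cfsg.spGL (m + m) F
  low : normalizer (R : Set (GL (Fin (m + m) ⊕ Fin (m + m)) F)) ⊓ Cfsg.spGL (m + m) F ≤ H
  high : H ≤ Cfsg.spGL (m + m) F
  ne : H ≠ Cfsg.spGL (m + m) F

variable {R H : Subgroup (GL (Fin (m + m) ⊕ Fin (m + m)) F)}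

theorem Over.conj (O : Over k R H) {g : GL8} (hg : g ∈ Cfsg.spGL (m + m) F) :
    Over k (R.map (MulAut.conj g).toMonoidHom) (H.map (MulAut.conj g).toMonoidHom) := by
  refine ⟨O.rank, O.size, O.below, O.mty.conj g, ?_, fun x hx => ?_, ?_, fun e => O.ne ?_⟩
  · rintro _ ⟨r, hr, rfl⟩
    exact mul_mem (mul_mem hg (O.le hr)) (inv_mem hg)
  · have hx2 : g⁻¹ * x * g ∈ Cfsg.spGL (m + m) F := mul_mem (mul_mem (inv_mem hg) hx.2) hg
    exact mem_conj.2 (O.low (Subgroup.mem_inf.2 ⟨mem_conj_norm.1 hx.1, hx2⟩))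
  · rintro _ ⟨r, hr, rfl⟩
    exact mul_mem (mul_mem hg (O.high hr)) (inv_mem hg)
  · refine le_antisymm O.high fun x hx => ?_
    have h0 : g * x * g⁻¹ ∈ Cfsg.spGL (m + m) F := mul_mem (mul_mem hg hx) (inv_mem hg)
    have h1 : g * x * g⁻¹ ∈ H.map (MulAut.conj g).toMonoidHom := e.symm ▸ h0
    rwa [mem_conj, show g⁻¹ * (g * x * g⁻¹) * g = x by group] at h1

/-- Transport of a non-central involution to the first standard one. -/
theorem Over.transport (O : Over k R H) {z : GL8} (hz : IZ R z) :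
    ∃ g ∈ Cfsg.spGL (m + m) F, g * z * g⁻¹ = Z0 ∧ Std (R.map (MulAut.conj g).toMonoidHom) := by
  obtain ⟨w, hw, hwz⟩ := O.mty.ext.exists_iz_anti hz.1 hz.2.2
  obtain ⟨g, hg, h1, h2⟩ := exists_std (le_trans (by norm_num) O.size) O.mty.ext.two (O.le hz.1) (O.le hw.1) hz.2.1 hw.2.1 hwz
  have O' := O.conj hg
  exact ⟨g, hg, h1, le_trans (by norm_num) O.size, O'.mty.ext, O'.le, ⟨z, hz.1, h1⟩, ⟨w, hw.1, h2⟩⟩

theorem plus_back {g z : GL8} {A B : M8} (h : A * plus (g * z * g⁻¹) = B * plus (g * z * g⁻¹)) :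
    (g⁻¹ : GL8).1 * A * g.1 * plus z = (g⁻¹ : GL8).1 * B * g.1 * plus z := by
  have ep : g.1 * plus z = plus (g * z * g⁻¹) * g.1 := by
    simp [plus, Matrix.mul_add, Matrix.add_mul, Matrix.mul_assoc]
  rw [Matrix.mul_assoc _ g.1, ep, ← Matrix.mul_assoc, Matrix.mul_assoc (g⁻¹ : GL8).1 A, h, ← Matrix.mul_assoc,
    Matrix.mul_assoc ((g⁻¹ : GL8).1 * B), ← ep, ← Matrix.mul_assoc]

/-- The elements trivial on one eigenspace lie in the normaliser. -/
theorem Over.root (O : Over k R H) {z : GL8} (hz : IZ R z) {g : GL8} (hg : g ∈ R) (hgz : g * z = z * g) :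
    ∃ x ∈ normalizer (R : Set GL8), x ∈ Cfsg.spGL (m + m) F ∧ x * z = z * x ∧
      x.1 * plus z = g.1 * plus z ∧ x.1 * minus z = minus z := by
  obtain ⟨k, hk, hkz, S⟩ := O.transport hz
  have hcomm : ∀ {a : GL8}, a * z = z * a → k * a * k⁻¹ * Z0 = Z0 * (k * a * k⁻¹) := fun {a} e => by
    rw [← hkz, show k * a * k⁻¹ * (k * z * k⁻¹) = k * (a * z) * k⁻¹ by group, e]
    group
  obtain ⟨x, hxN, hxS, hxz, hu, hv⟩ := S.root (g := k * g * k⁻¹) ⟨g, hg, rfl⟩ (hcomm hgz)
  refine ⟨k⁻¹ * x * k, mem_conj_norm.1 hxN, mul_mem (mul_mem (inv_mem hk) hxS) hk, ?_, ?_, ?_⟩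
  · calc k⁻¹ * x * k * z = k⁻¹ * (x * (k * z * k⁻¹)) * k := by group
      _ = k⁻¹ * ((k * z * k⁻¹) * x) * k := by rw [hkz, hxz]
      _ = _ := by group
  · rw [← hkz] at hu
    have := plus_back hu
    rwa [← Units.val_mul, ← Units.val_mul, ← Units.val_mul, ← Units.val_mul,
      show k⁻¹ * (k * g * k⁻¹) * k = g by group] at this
  · have hv' : x.1 * plus (k * (-z) * k⁻¹) = (1 : M8) * plus (k * (-z) * k⁻¹) := by
      rw [show k * -z * k⁻¹ = -(Z0 : GL8) by rw [mul_neg, neg_mul, hkz], plus_neg, hv, Matrix.one_mul]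
    have := plus_back hv'
    rwa [plus_neg, Matrix.mul_one, Units.inv_mul, Matrix.one_mul, ← Units.val_mul, ← Units.val_mul] at this

/-- The elements trivial on the second block. -/
theorem Over.side_root (O : Over k R H) (S : Std R) {e : GL4} (he : e ∈ side R) : emb (e, (1 : GL4)) ∈ H := by
  obtain ⟨x, hxN, hxS, hxz, hu, hv⟩ := S.root (mem_side.1 he) (emb_comm_Z0 _ _)
  obtain ⟨c, d, rfl⟩ := comm_Z0 S.two hxz
  rw [plus_Z0, emb_val, emb_val, big_mul, big_mul, big_inj] at hu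
  rw [minus_Z0, emb_val, big_mul, big_inj] at hv
  simp only [Matrix.mul_smul, Matrix.mul_one, Matrix.mul_zero, add_zero, zero_add] at hu hv
  rw [show e = c from (Units.ext (smul_right_injective _ S.two hu.1)).symm,
    show (1 : GL4) = d from (Units.ext (smul_right_injective _ S.two hv.2.2.2)).symm]
  exact O.low ⟨hxN, hxS⟩

/-- The full block group with the swap is contained in no proper overgroup. -/
theorem no_blocks (O : Over k R H) (S : Std R) (hblk : ∀ a ∈ Cfsg.spGL m F, emb (a, (1 : GL4)) ∈ H) : False := by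
  classical
  have h2 := S.two
  have hsH : swp ∈ H := O.low ⟨le_normalizer S.hs, swp_mem⟩
  have hall : ∀ a ∈ Cfsg.spGL m F, ∀ b ∈ Cfsg.spGL m F, emb (a, b) ∈ H := fun a ha b hb => by
    have h1 := mul_mem (hblk a ha) (mul_mem (mul_mem hsH (hblk b hb)) (inv_mem hsH))
    rwa [swp_emb, mul_inv_cancel_right, emb_mul, mul_one, one_mul] at h1
  let W : Submodule F V8 := LinearMap.eqLocus (Matrix.toLin' (Z0 : GL8).1) LinearMap.id
  let W' : Submodule F V8 := LinearMap.eqLocus (Matrix.toLin' (Z0 : GL8).1) (-LinearMap.id)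
  have mW : ∀ {x}, x ∈ W ↔ (Z0 : GL8).1 *ᵥ x = x := fun {x} => Iff.rfl
  have mW' : ∀ {x}, x ∈ W' ↔ (Z0 : GL8).1 *ᵥ x = -x := fun {x} => Iff.rfl
  have hzz : (Z0 : GL8).1 * (Z0 : GL8).1 = 1 := congrArg Units.val Z0_sq
  have hss : (swp : GL8).1 * (swp : GL8).1 = 1 := congrArg Units.val swp_sq
  have hzs : (Z0 : GL8).1 * (swp : GL8).1 = -((swp : GL8).1 * (Z0 : GL8).1) := by
    rw [← Units.val_mul, ← Units.val_mul, swp_Z0, Units.val_neg, neg_neg]
  have hdis : W ⊓ W' = ⊥ := (Submodule.eq_bot_iff _).2 fun x ⟨h, h'⟩ => by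
    have e : x = -x := (mW.1 h).symm.trans (mW'.1 h')
    exact (smul_eq_zero.1 (show (2 : F) • x = 0 by rw [two_smul]; exact add_eq_zero_iff_eq_neg.2 e)).resolve_left h2
  have hsup : W ⊔ W' = ⊤ := eq_top_iff.2 fun x _ => by
    rw [show x = (2 : F)⁻¹ • (x + (Z0 : GL8).1 *ᵥ x) + (2 : F)⁻¹ • (x - (Z0 : GL8).1 *ᵥ x) by
      rw [← smul_add, add_add_sub_cancel, ← two_smul F x, inv_smul_smul₀ h2]]
    refine Submodule.add_mem_sup (W.smul_mem _ (mW.2 ?_)) (W'.smul_mem _ (mW'.2 ?_))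
    · rw [Matrix.mulVec_add, Matrix.mulVec_mulVec, hzz, Matrix.one_mulVec]
      exact add_comm _ _
    · rw [Matrix.mulVec_sub, Matrix.mulVec_mulVec, hzz, Matrix.one_mulVec, neg_sub]
  have sW : ∀ {x}, x ∈ W → (swp : GL8).1 *ᵥ x ∈ W' := fun {x} hx => mW'.2 (by
    rw [Matrix.mulVec_mulVec, hzs, Matrix.neg_mulVec, ← Matrix.mulVec_mulVec, mW.1 hx])
  have sW' : ∀ {x}, x ∈ W' → (swp : GL8).1 *ᵥ x ∈ W := fun {x} hx => mW.2 (by
    rw [Matrix.mulVec_mulVec, hzs, Matrix.neg_mulVec, ← Matrix.mulVec_mulVec, mW'.1 hx, Matrix.mulVec_neg, neg_neg])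
  have sinv : ∀ x, (swp : GL8).1 *ᵥ ((swp : GL8).1 *ᵥ x) = x := fun x => by
    rw [Matrix.mulVec_mulVec, hss, Matrix.one_mulVec]
  have hrk : Module.finrank F W = m + m ∧ Module.finrank F W' = m + m := by
    have h1 := Submodule.finrank_sup_add_finrank_inf_eq W W'
    rw [hsup, hdis, finrank_top, finrank_bot, add_zero] at h1
    let e : W ≃ₗ[F] W' :=
      { toFun := fun x => ⟨(swp : GL8).1 *ᵥ x.1, sW x.2⟩
        invFun := fun x => ⟨(swp : GL8).1 *ᵥ x.1, sW' x.2⟩
        left_inv := fun x => Subtype.ext (sinv x.1)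
        right_inv := fun x => Subtype.ext (sinv x.1)
        map_add' := fun x y => Subtype.ext (by simp [Matrix.mulVec_add])
        map_smul' := fun c x => Subtype.ext (by simp [Matrix.mulVec_smul]) }
    have h3 := e.finrank_eq
    have h4 : Module.finrank F V8 = (m + m) + (m + m) := by simp
    omega
  have horth : ∀ a ∈ W, ∀ b ∈ W', Cfsg.sympForm (m + m) F a b = 0 ∧ Cfsg.sympForm (m + m) F b a = 0 := fun a ha b hb => by
    have hB : ∀ u v, SympGen.B ((Z0 : GL8).1 *ᵥ u) ((Z0 : GL8).1 *ᵥ v) = SympGen.B u v := fun u v => Z0_mem u v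
    have e := hB a b
    rw [mW.1 ha, mW'.1 hb, show -b = (-1 : F) • b by rw [neg_one_smul], SympGen.B_smul_right] at e
    have h0 : SympGen.B a b = 0 :=
      (mul_eq_zero.1 (show (2 : F) * SympGen.B a b = 0 by linear_combination -e)).resolve_left h2
    exact ⟨h0, show SympGen.B b a = 0 by rw [SympGen.B_swap, h0, neg_zero]⟩
  have hnd : ∀ {U U' : Submodule F V8}, U ⊔ U' = ⊤ →
      (∀ a ∈ U, ∀ b ∈ U', Cfsg.sympForm (m + m) F a b = 0 ∧ Cfsg.sympForm (m + m) F b a = 0) →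
      Cfsg.Geo.IsNondegenerateOn (Cfsg.sympForm (m + m) F) U := fun {U U'} hUU ho w hw hw0 => by
    obtain ⟨y, hy, -⟩ := SympSimple.exists_both hw0 hw0
    obtain ⟨a, ha, b, hb, rfl⟩ := Submodule.mem_sup.1 (hUU ▸ Submodule.mem_top : y ∈ U ⊔ U')
    have hy' : SympGen.B a w ≠ 0 := fun e => hy (by
      rw [SympGen.B_add_left, e, show SympGen.B b w = 0 from (ho w hw b hb).2, add_zero])
    exact ⟨⟨a, ha, hy'⟩, ⟨a, ha, fun e => hy' (by
      rw [SympGen.B_swap, show SympGen.B w a = 0 from e, neg_zero])⟩⟩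
  let D : Fin 2 → Submodule F V8 := ![W, W']
  have hD : Cfsg.Geo.IsNondegenerateMDecomposition (Cfsg.sympForm (m + m) F) (m + m) D := by
    refine ⟨⟨le_rfl, by have := O.size; omega, fun i => ?_, ?_, ?_⟩, fun i => ?_, fun i j hij => ?_⟩
    · fin_cases i
      exacts [hrk.1, hrk.2]
    · rw [iSupIndep_pair (i := (0 : Fin 2)) (j := 1) (by decide) (fun i => by fin_cases i <;> simp)]
      exact disjoint_iff.2 hdis
    · rw [eq_top_iff, ← hsup]
      exact sup_le (le_iSup D 0) (le_iSup D 1)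
    · fin_cases i
      · exact hnd hsup horth
      · exact hnd (sup_comm W W' ▸ hsup) fun a ha b hb => (horth b hb a ha).symm
    · fin_cases i <;> fin_cases j
      exacts [absurd rfl hij, fun a ha b hb => (horth a ha b hb).1, fun a ha b hb => (horth b hb a ha).2,
        absurd rfl hij]
  have hstab : ∀ g ∈ Cfsg.Geo.decompositionStabilizer D, g * Z0 = Z0 * g ∨ g * Z0 = -(Z0 * g) := fun g hg => by
    obtain ⟨σ, hσ⟩ := hg
    have ext : ∀ {A B : M8}, (∀ a ∈ W, A *ᵥ a = B *ᵥ a) → (∀ b ∈ W', A *ᵥ b = B *ᵥ b) → A = B := fun {A B} h1 h2 =>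
      Matrix.toLin'.injective (LinearMap.ext fun v => by
        obtain ⟨a, ha, b, hb, rfl⟩ := Submodule.mem_sup.1 (hsup ▸ Submodule.mem_top : v ∈ W ⊔ W')
        rw [Matrix.toLin'_apply, Matrix.toLin'_apply, Matrix.mulVec_add, Matrix.mulVec_add, h1 a ha, h2 b hb])
    have himg : ∀ i {a}, a ∈ D i → g.1 *ᵥ a ∈ D (σ i) := fun i a ha => hσ i ▸ Submodule.mem_map_of_mem ha
    rcases eq_or_ne (σ 0) 0 with h0 | h0
    · have h1 : σ 1 = 1 := by
        have : σ 1 ≠ 0 := fun e => by simpa using σ.injective (e.trans h0.symm)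
        omega
      refine Or.inl (Units.ext (ext (fun a ha => ?_) fun b hb => ?_))
      · have := himg 0 ha
        rw [h0] at this
        rw [Units.val_mul, Units.val_mul, ← Matrix.mulVec_mulVec, ← Matrix.mulVec_mulVec, mW.1 ha, mW.1 this]
      · have := himg 1 hb
        rw [h1] at this
        rw [Units.val_mul, Units.val_mul, ← Matrix.mulVec_mulVec, ← Matrix.mulVec_mulVec, mW'.1 hb, mW'.1 this,
          Matrix.mulVec_neg]
    · have h01 : σ 0 = 1 := by omega
      have h1 : σ 1 = 0 := by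
        have : σ 1 ≠ 1 := fun e => by simpa using σ.injective (e.trans h01.symm)
        omega
      refine Or.inr (Units.ext (ext (fun a ha => ?_) fun b hb => ?_))
      · have := himg 0 ha
        rw [h01] at this
        rw [Units.val_mul, Units.val_neg, Units.val_mul, Matrix.neg_mulVec, ← Matrix.mulVec_mulVec,
          ← Matrix.mulVec_mulVec, mW.1 ha, mW'.1 this, neg_neg]
      · have := himg 1 hb
        rw [h1] at this
        rw [Units.val_mul, Units.val_neg, Units.val_mul, Matrix.neg_mulVec, ← Matrix.mulVec_mulVec,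
          ← Matrix.mulVec_mulVec, mW'.1 hb, mW.1 this, Matrix.mulVec_neg]
  have hle : Cfsg.Geo.decompositionStabilizer D ⊓ Cfsg.spGL (m + m) F ≤ H := fun g hg => by
    have key : ∀ k : GL8, k ∈ Cfsg.spGL (m + m) F → k * Z0 = Z0 * k → k ∈ H := fun k hk hkz => by
      obtain ⟨a, b, rfl⟩ := comm_Z0 h2 hkz
      exact hall a (emb_mem_iff.1 hk).1 b (emb_mem_iff.1 hk).2
    rcases hstab g hg.1 with e | e
    · exact key g hg.2 e
    · have := key (g * swp) (mul_mem hg.2 swp_mem) (by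
        rw [mul_assoc, swp_Z0, mul_neg, ← mul_assoc, e, neg_mul, neg_neg, mul_assoc])
      have h1 := mul_mem this hsH
      rwa [mul_assoc, swp_sq, mul_one] at h1
  have hmax := CfsgLib.MaxSub.sp_wreath_maximal (by have := O.size; omega) hD (fun h => by have := O.size; omega)
  have Xs := (S.side_minus O.rank O.mty).ext
  obtain ⟨fa, -, hfa⟩ := Xs.exists_iz le_rfl (lt_of_lt_of_le (by norm_num) Xs.order)
  obtain ⟨fb, -, hfba⟩ := Xs.anti hfa.1 hfa.2.2
  have hiz : IZ R swp := ⟨S.hs, swp_sq, fun e => by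
    have := swp_Z0 (F := F) (m := m)
    rcases e with e | e <;> rw [e] at this <;> simp at this <;>
      exact absurd this (by first | exact S.ext.ne_neg _ | exact (S.ext.ne_neg _).symm)⟩
  obtain ⟨x, hxN, hxS, -, hu, hv⟩ := O.root hiz (mem_side.1 hfa.1) (swp_emb fa fa).symm
  have hxH : x ∈ H := O.low ⟨hxN, hxS⟩
  rcases hmax.2 H hle O.high with e | e
  · have hx' := hstab x ((e ▸ hxH : x ∈ _) : x ∈ Cfsg.Geo.decompositionStabilizer D ⊓ Cfsg.spGL (m + m) F).1
    have h2x : (2 : F) • x.1 = big (fa.1 + 1) (fa.1 - 1) (fa.1 - 1) (fa.1 + 1) := by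
      calc (2 : F) • x.1 = x.1 * (plus swp + minus swp) := by
            rw [show plus (swp : GL8) + minus swp = (2 : F) • (1 : M8) by rw [plus, minus, two_smul]; abel,
              Matrix.mul_smul, Matrix.mul_one]
        _ = _ := by
            rw [Matrix.mul_add, hu, hv, plus_swp, minus_swp, emb_val, big_mul, big_add]
            simp [sub_eq_add_neg]
    haveI : Nonempty (Fin m ⊕ Fin m) := ⟨.inl ⟨0, S.pos⟩⟩
    have nsd : ∀ c : F, fa.1 ≠ c • (1 : M4) := fun c e => by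
      have h1 : fb.1 * fa.1 = -(fa.1 * fb.1) := congrArg Units.val hfba
      rw [e, Matrix.mul_smul, Matrix.mul_one, Matrix.smul_mul, Matrix.one_mul] at h1
      have h2' : ((2 : F) * c) • fb.1 = 0 := by rw [mul_smul, two_smul]; exact add_eq_zero_iff_eq_neg.2 h1
      have hc := (mul_eq_zero.1 ((smul_eq_zero.1 h2').resolve_right fb.ne_zero)).resolve_left h2
      rw [hc, zero_smul] at e
      exact fa.ne_zero e
    rcases hx' with e' | e'
    · have := show ((2 : F) • x.1) * (Z0 : GL8).1 = (Z0 : GL8).1 * ((2 : F) • x.1) by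
        rw [Matrix.smul_mul, Matrix.mul_smul, ← Units.val_mul, e', Units.val_mul]
      simp only [h2x, Z0_val, big_mul, big_inj, Matrix.mul_neg,
        Matrix.neg_mul, Matrix.mul_one, Matrix.one_mul, Matrix.mul_zero, Matrix.zero_mul, add_zero, zero_add] at this
      refine nsd 1 ?_
      have h0 : (2 : F) • (fa.1 - 1) = 0 := by rw [two_smul]; nth_rw 2 [← this.2.1]; exact add_neg_cancel _
      rw [one_smul]
      exact sub_eq_zero.1 ((smul_eq_zero.1 h0).resolve_left h2)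
    · have := show ((2 : F) • x.1) * (Z0 : GL8).1 = -((Z0 : GL8).1 * ((2 : F) • x.1)) by
        rw [Matrix.smul_mul, Matrix.mul_smul, ← Units.val_mul, e', Units.val_neg, Units.val_mul, smul_neg]
      simp only [h2x, Z0_val, big_mul,
        big_neg, big_inj, Matrix.mul_neg, Matrix.neg_mul, Matrix.mul_one, Matrix.one_mul, Matrix.mul_zero,
        Matrix.zero_mul, add_zero, zero_add] at this
      refine nsd (-1) ?_
      have h0 : (2 : F) • (fa.1 + 1) = 0 := by rw [two_smul]; nth_rw 2 [this.1]; exact add_neg_cancel _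
      rw [neg_one_smul]
      exact eq_neg_of_add_eq_zero_left ((smul_eq_zero.1 h0).resolve_left h2)
  · exact O.ne e

/-- The blocks of an element centralising `Z0` normalise the two-group of their block. -/
theorem Over.blocks (O : Over k R H) (S : Std R) {x t : GL4} (h : emb (x, t) ∈ H) :
    x ∈ normalizer (side R : Set GL4) := by
  let X1 : Subgroup GL4 := (H.comap emb).map (MonoidHom.fst GL4 GL4)
  have memX : ∀ {a}, a ∈ X1 ↔ ∃ b, emb (a, b) ∈ H := fun {a} => by
    simp [X1, Subgroup.mem_map]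
  have hX1 : X1 ≤ Cfsg.spGL m F := fun a ha => by
    obtain ⟨b, hb⟩ := memX.1 ha
    exact (emb_mem_iff.1 (O.high hb)).1
  have hN : normalizer (side R : Set GL4) ⊓ Cfsg.spGL m F ≤ X1 := fun a ha =>
    memX.2 ⟨a, O.low ⟨S.diag_norm ha.1, emb_mem_iff.2 ⟨ha.2, ha.2⟩⟩⟩
  by_cases e : X1 = Cfsg.spGL m F
  swap
  · exact O.below (side R) X1 (S.side_minus O.rank O.mty) S.side_le hN hX1 e (memX.2 ⟨t, h⟩)
  exfalso
  refine no_blocks O S fun a ha => ?_
  let K : Subgroup (Cfsg.spGL m F) :=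
    H.comap ((emb.comp (MonoidHom.inl GL4 GL4)).comp (Cfsg.spGL m F).subtype)
  have hK : K.Normal := ⟨fun k hk g => by
    obtain ⟨b, hb⟩ := memX.1 (e.ge g.2 : g.1 ∈ X1)
    show emb (((g * k * g⁻¹ : Cfsg.spGL m F) : GL4), (1 : GL4)) ∈ H
    have := mul_mem (mul_mem hb (show emb (k.1, (1 : GL4)) ∈ H from hk)) (inv_mem hb)
    rwa [emb_mul, emb_inv, emb_mul, mul_one, mul_inv_cancel] at this⟩
  have Xs := (S.side_minus O.rank O.mty).ext
  obtain ⟨fa, -, hfa⟩ := Xs.exists_iz le_rfl (lt_of_lt_of_le (by norm_num) Xs.order)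
  obtain ⟨fb, hfb, hfba⟩ := Xs.anti hfa.1 hfa.2.2
  have htop := sp_normal_top O.size hK ⟨⟨fa, S.side_le hfa.1⟩, O.side_root S hfa.1, ⟨fb, S.side_le hfb⟩,
    fun e' => S.ne_neg4 (fa * fb) (by
      have e2 : fa * fb = fb * fa := congrArg Subtype.val e'
      rw [hfba] at e2
      exact e2)⟩
  exact (htop.ge (Subgroup.mem_top (⟨a, ha⟩ : Cfsg.spGL m F)) : _ ∈ K)

/-- Conjugation by an element centralising `z` agrees with the group on the fixed space of `z`. -/
theorem Over.proj (O : Over k R H) {z h c : GL8} (hz : IZ R z) (hh : h ∈ H) (hhz : h * z = z * h) (hc : c ∈ R)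
    (hcz : c * z = z * c) : ∃ d ∈ R, d * z = z * d ∧ Ag z (h * c * h⁻¹) d := by
  obtain ⟨k, hk, hkz, S⟩ := O.transport hz
  have hcomm : ∀ {a : GL8}, a * z = z * a → k * a * k⁻¹ * Z0 = Z0 * (k * a * k⁻¹) := fun {a} e => by
    rw [← hkz, show k * a * k⁻¹ * (k * z * k⁻¹) = k * (a * z) * k⁻¹ by group, e]
    group
  obtain ⟨x, t, hxt⟩ := comm_Z0 S.two (hcomm hhz)
  obtain ⟨e, he, hce⟩ := S.cent_cases (r := k * c * k⁻¹) ⟨c, hc, rfl⟩ (hcomm hcz)
  have hxN := (O.conj hk).blocks S (x := x) (t := t) (hxt ▸ ⟨h, hh, rfl⟩)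
  have he' : x * e * x⁻¹ ∈ side _ := (Subgroup.mem_normalizer_iff.1 hxN e).1 he
  refine ⟨k⁻¹ * emb (x * e * x⁻¹, x * e * x⁻¹) * k, mem_conj.1 (mem_side.1 he'), ?_, ?_⟩
  · calc k⁻¹ * emb (x * e * x⁻¹, x * e * x⁻¹) * k * z
        = k⁻¹ * (emb (x * e * x⁻¹, x * e * x⁻¹) * (k * z * k⁻¹)) * k := by group
      _ = k⁻¹ * ((k * z * k⁻¹) * emb (x * e * x⁻¹, x * e * x⁻¹)) * k := by rw [hkz, emb_comm_Z0]
      _ = _ := by group
  · have e0 : (k * (h * c * h⁻¹) * k⁻¹).1 * plus (k * z * k⁻¹) =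
        (emb (x * e * x⁻¹, x * e * x⁻¹)).1 * plus (k * z * k⁻¹) := by
      rw [hkz, show k * (h * c * h⁻¹) * k⁻¹ = (k * h * k⁻¹) * (k * c * k⁻¹) * (k * h * k⁻¹)⁻¹ by group, hxt,
        plus_Z0]
      rcases hce with e' | e' <;> rw [e', emb_inv, emb_mul, emb_mul, emb_val, emb_val, big_mul, big_mul] <;>
        simp
    have := plus_back e0
    unfold Ag
    rwa [← Units.val_mul, ← Units.val_mul, ← Units.val_mul, ← Units.val_mul,
      show k⁻¹ * (k * (h * c * h⁻¹) * k⁻¹) * k = h * c * h⁻¹ by group] at this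

/-- The elements trivial on the second block come from the group of the first. -/
theorem Over.kernel (O : Over k R H) (S : Std R) {y : GL4} (hy : emb (y, (1 : GL4)) ∈ H) : y ∈ side R := by
  have Sm := S.side_minus O.rank O.mty
  have Xs := Sm.ext
  let K : Subgroup GL4 := H.comap (emb.comp (MonoidHom.inl GL4 GL4))
  have memK : ∀ {v}, v ∈ K ↔ emb (v, (1 : GL4)) ∈ H := fun {v} => Iff.rfl
  have hsp : ∀ {v}, v ∈ K → v ∈ Cfsg.spGL m F := fun hv => (emb_mem_iff.1 (O.high (memK.1 hv))).1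
  have P : KHyp (side R) K := by
    refine ⟨fun e he => memK.2 (O.side_root S he), fun v hv => O.blocks S (memK.1 hv),
      fun a e ha he haa hea v hv => ?_, fun a' ha' v hv hcom => ?_⟩
    · have hsN := Xs.root_norm ha he haa hea
      have hsS := rootEl_sp S.two (S.side_le ha) (S.side_le he) haa (sg_one_iff.1 hea)
      have hsH := O.low ⟨S.diag_norm hsN, emb_mem_iff.2 ⟨hsS, hsS⟩⟩
      have := mul_mem (mul_mem hsH (memK.1 hv)) (inv_mem hsH)
      rw [emb_inv, emb_mul, emb_mul, mul_one, mul_inv_cancel] at this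
      exact memK.2 this
    · have hiz : IZ R (emb (a', a')) := ⟨mem_side.1 ha'.1, by rw [emb_mul, ha'.2.1, emb_one], fun e => by
        rcases e with e | e
        · rw [← emb_one, emb_inj] at e; exact ha'.2.2 (Or.inl e.1)
        · rw [← emb_one, ← emb_neg, emb_inj] at e; exact ha'.2.2 (Or.inr e.1)⟩
      obtain ⟨d, hd, hdz, hag⟩ := O.proj hiz (memK.1 hv) (by rw [emb_mul, emb_mul, one_mul, mul_one, hcom]) S.hs
        (swp_emb a' a')
      have hval : (emb (v, (1 : GL4)) * swp * (emb (v, (1 : GL4)))⁻¹).1 = big (0 : M4) v.1 (v⁻¹).1 0 := by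
        rw [Units.val_mul, Units.val_mul, emb_inv, inv_one, emb_val, emb_val, swp_val, big_mul, big_mul]
        simp
      have hplus : plus (emb (a', a')) = big (plus a') 0 0 (plus a') := by
        rw [plus, emb_val, ← big_one, big_add]
        simp [plus]
      have hne : v.1 * plus a' ≠ 0 := fun e0 => plus_ne_zero hiz (by
        have e1 : plus a' = 0 := by
          have := congrArg ((v⁻¹).1 * ·) e0
          simpa [← Matrix.mul_assoc] using this
        rw [hplus, e1]; simp [big])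
      unfold Ag at hag
      rw [hval, hplus] at hag
      rcases S.ext.comm d hd Z0 S.hZ with hc' | hc'
      · exfalso
        obtain ⟨e, -, rfl | rfl⟩ := S.cent_cases hd hc' <;>
        · rw [emb_val, big_mul, big_mul, big_inj] at hag
          exact hne (by simpa using hag.2.1)
      · obtain ⟨e, he, hde | hde⟩ := S.anti_cases hd hc' <;>
        · subst hde
          refine ⟨e, he, ?_, ?_⟩
          · have := congrArg Units.val hdz
            simp only [Units.val_mul, emb_val, swp_val, big_mul, big_inj, Matrix.mul_one, Matrix.one_mul,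
              Matrix.mul_zero, Matrix.zero_mul, add_zero, zero_add] at this
            exact Units.ext this.2.1
          · rw [Units.val_mul, emb_val, swp_val, big_mul, big_mul, big_mul, big_inj] at hag
            simpa [Ag] using hag.2.1
  obtain ⟨c, r, hr, hcr⟩ := Xs.scalar_of_trivial ⟨_, Sm.card⟩ (kernel_trivial Sm P (memK.2 hy))
  have h1 : y * r⁻¹ = 1 ∨ y * r⁻¹ = -1 :=
    sp_scalar S.pos (mul_mem (hsp (memK.2 hy)) (inv_mem (S.side_le hr))) (by
      rw [Units.val_mul, hcr, Matrix.smul_mul, Units.mul_inv])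
  rcases h1 with e | e <;> rw [mul_inv_eq_iff_eq_mul] at e <;> rw [e]
  · rw [one_mul]; exact hr
  · exact mul_mem S.side_neg hr

/-- The centraliser of `Z0` normalises the two-group. -/
theorem Over.cent_std (O : Over k R H) (S : Std R) {h : GL8} (hh : h ∈ H) (hhz : h * Z0 = Z0 * h) :
    h ∈ normalizer (R : Set GL8) := by
  obtain ⟨x, t, rfl⟩ := comm_Z0 S.two hhz
  have hsH : swp ∈ H := O.low ⟨le_normalizer S.hs, swp_mem⟩
  have hx := O.blocks S hh
  have hxS := (emb_mem_iff.1 (O.high hh)).1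
  have hdx := S.diag_norm hx
  have hdH : emb (x, x) ∈ H := O.low ⟨hdx, emb_mem_iff.2 ⟨hxS, hxS⟩⟩
  have h1 : emb (x⁻¹ * t, (1 : GL4)) ∈ H := by
    have := mul_mem (mul_mem hsH (mul_mem (inv_mem hdH) hh)) (inv_mem hsH)
    rwa [emb_inv, emb_mul, inv_mul_cancel, swp_emb, mul_inv_cancel_right] at this
  have hk := O.kernel S h1
  obtain ⟨r, hrN, -, hrz, hu, hv⟩ := S.root (mem_side.1 hk) (emb_comm_Z0 _ _)
  obtain ⟨c, d, rfl⟩ := comm_Z0 S.two hrz
  have hr' : c = x⁻¹ * t ∧ d = 1 := by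
    rw [plus_Z0, emb_val, emb_val, big_mul, big_mul, big_inj] at hu
    rw [minus_Z0, emb_val, big_mul, big_inj] at hv
    simp only [Matrix.mul_smul, Matrix.mul_one, Matrix.mul_zero, add_zero, zero_add] at hu hv
    exact ⟨Units.ext (smul_right_injective _ S.two hu.1), Units.ext (smul_right_injective _ S.two hv.2.2.2)⟩
  rw [hr'.1, hr'.2] at hrN
  have hs' : swp ∈ normalizer (R : Set GL8) := le_normalizer S.hs
  have h2 := mul_mem hdx (mul_mem (mul_mem hs' hrN) (inv_mem hs'))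
  rwa [swp_emb, mul_inv_cancel_right, emb_mul, mul_one, mul_inv_cancel_left] at h2

/-- The local hypotheses hold. -/
theorem Over.loc (O : Over k R H) : Loc R H := by
  refine ⟨fun r hr => O.low ⟨le_normalizer hr, O.le hr⟩, fun z hz h hh hhz => ?_, fun z hz g hg hgz => ?_,
    fun z hz z' hz'H hz'N hz'2 hz'z => ?_⟩
  · obtain ⟨k, hk, hkz, S⟩ := O.transport hz
    have := (O.conj hk).cent_std S (h := k * h * k⁻¹) ⟨h, hh, rfl⟩ (by
      rw [← hkz, show k * h * k⁻¹ * (k * z * k⁻¹) = k * (h * z) * k⁻¹ by group, hhz]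
      group)
    have := mem_conj_norm.1 this
    rwa [show k⁻¹ * (k * h * k⁻¹) * k = h by group] at this
  · obtain ⟨x, hxN, hxS, h1, h2, h3⟩ := O.root hz hg hgz
    exact ⟨x, O.low ⟨hxN, hxS⟩, h1, h2, h3⟩
  · obtain ⟨k, hk, hkz, S⟩ := O.transport hz
    obtain ⟨g₁, hg₁, g₂, hg₂, c₁, c₂, ha, e₁, e₂⟩ := S.pair O.rank (O.conj hk).mty (z' := k * z' * k⁻¹)
      (mem_conj_norm.2 (by rwa [show k⁻¹ * (k * z' * k⁻¹) * k = z' by group]))
      (mul_mem (mul_mem hk (O.high hz'H)) (inv_mem hk))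
      (by rw [show k * z' * k⁻¹ * (k * z' * k⁻¹) = k * (z' * z') * k⁻¹ by group, hz'2, mul_one, mul_inv_cancel])
      (by
        rw [← hkz, show k * z' * k⁻¹ * (k * z * k⁻¹) = k * (z' * z) * k⁻¹ by group, hz'z]
        group)
    have back : ∀ {g}, g * Z0 = Z0 * g → k⁻¹ * g * k * z = z * (k⁻¹ * g * k) := fun {g} e => by
      calc k⁻¹ * g * k * z = k⁻¹ * (g * (k * z * k⁻¹)) * k := by group
        _ = k⁻¹ * ((k * z * k⁻¹) * g) * k := by rw [hkz, e]
        _ = _ := by group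
    have fix : ∀ {g : GL8}, g.1 * (k * z' * k⁻¹).1 * plus Z0 = (k * z' * k⁻¹).1 * g.1 * plus Z0 →
        (k⁻¹ * g * k).1 * z'.1 * plus z = z'.1 * (k⁻¹ * g * k).1 * plus z := fun {g} e => by
      rw [← hkz] at e
      have := plus_back e
      rwa [← Units.val_mul, ← Units.val_mul, ← Units.val_mul, ← Units.val_mul, ← Units.val_mul, ← Units.val_mul,
        show k⁻¹ * (g * (k * z' * k⁻¹)) * k = k⁻¹ * g * k * z' by group,
        show k⁻¹ * (k * z' * k⁻¹ * g) * k = z' * (k⁻¹ * g * k) by group, Units.val_mul, Units.val_mul (b := k⁻¹ * g * k)]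
        at this
    refine ⟨_, mem_conj.1 hg₁, _, mem_conj.1 hg₂, back c₁, back c₂, ?_, fix e₁, fix e₂⟩
    rw [show k⁻¹ * g₁ * k * (k⁻¹ * g₂ * k) = k⁻¹ * (g₁ * g₂) * k by group, ha, mul_neg, neg_mul]
    congr 1
    group

end CfsgLib.MaxSub.Extra.Gen
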