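import Cfsg.Agent.Lib.MaxSub.Extra.Group
import Cfsg.Agent.Lib.MaxSub.Extra.Gen.Over
import Cfsg.Agent.Lib.MaxSub.Extra.SpEight.Kernel
import Cfsg.Prelude.Def_GeometricClasses

/-!
The normaliser of a group of minus type of order `2^(1+2k)` is maximal in the symplectic group over an odd prime
field, by induction on `k` starting from `k = 3`.
-/

set_option autoImplicit false

namespace CfsgLib.MaxSub.Extra.Gen

open Matrix Subgroup Cfsg.Geo

variable {F : Type*} [Field F]

/-- The degree of a group of minus type in the symplectic group. -/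
theorem Minus.dim {k m : ℕ} {R : Subgroup (GL (Fin m ⊕ Fin m) F)} (S : Minus k R) : 2 * m = 2 ^ k := by
  have h := S.ext.degree ⟨_, S.card⟩
  rw [S.card, Fintype.card_sum, Fintype.card_fin] at h
  have h2 : (2 * m) ^ 2 = (2 ^ k) ^ 2 := by
    rw [← pow_mul, mul_comm k 2, sq]
    rw [pow_add, pow_one] at h
    rw [two_mul m]
    omega
  exact Nat.pow_left_injective two_ne_zero h2

variable [Fintype F]

/-- The theorem at every size. -/
theorem maxAt (hp : (Fintype.card F).Prime) {k : ℕ} (hk : 3 ≤ k) : ∀ m, MaxAt F k m := by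
  induction k, hk using Nat.le_induction with
  | base =>
    intro m R H S hR hlo hhi hne
    have hd := S.dim
    obtain rfl : m = 4 := by norm_num at hd; omega
    exact (SpEight.Over.loc (R := R) (H := H) ⟨hp, S.ext, hR, S.card, hlo, hhi, hne⟩).le_normalizer S.ext
  | succ k hk ih =>
    intro m R H S hR hlo hhi hne
    have hd := S.dim
    rw [pow_succ] at hd
    obtain ⟨n, rfl⟩ : ∃ n, m = n + n := ⟨2 ^ (k - 1), by
      have : 2 ^ k = 2 * 2 ^ (k - 1) := by rw [← pow_succ']; congr 1; omega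
      omega⟩
    have hn : 3 ≤ n := by
      have : 2 ^ 3 ≤ 2 ^ k := Nat.pow_le_pow_right two_pos hk
      norm_num at this
      omega
    exact (Over.loc (R := R) (H := H) ⟨hk, hn, ih n, S, hR, hlo, hhi, hne⟩).le_normalizer S.ext

theorem minus_of_hyp {m k : ℕ} (hm : 7 ≤ m) (h2 : (2 : F) ≠ 0) {R : Subgroup (GL (Fin m ⊕ Fin m) F)}
    (hs : IsSymplecticTypeGroup 2 R) (hi : ActsAbsolutelyIrreducibly (matrixSet R)) (hR : R ≤ Cfsg.spGL m F)
    (hc : Nat.card R = 2 ^ (1 + 2 * k)) (hz : Nat.card (Subgroup.center R) = 2) (hminus : IsOfMinusType k R) :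
    Minus k R := by
  classical
  haveI : Finite R := Nat.finite_of_card_ne_zero (by rw [hc]; exact pow_ne_zero _ two_ne_zero)
  haveI : Nonempty (Fin m ⊕ Fin m) := ⟨.inl ⟨0, by omega⟩⟩
  have h4 : ∀ x : R, x ^ 4 = 1 := fun x => by
    have := Monoid.pow_exponent_eq_one x
    rwa [hs.exponent_eq] at this
  have irr : ∀ A : Matrix (Fin m ⊕ Fin m) (Fin m ⊕ Fin m) F, (∀ s ∈ R, A * (s : Matrix _ _ F) = (s : Matrix _ _ F) * A) →
      ∃ c : F, A = c • 1 :=
    fun A hA => hi.2 A fun s hs' => by obtain ⟨g, hg, rfl⟩ := hs'; exact hA g hg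
  have hcF : (Nat.card R : F) ≠ 0 := by rw [hc]; push_cast; exact pow_ne_zero _ h2
  obtain ⟨hn, hle⟩ := degree_le (R := R) hcF irr
  have hk : 4 ≤ k := by
    rw [Fintype.card_sum, Fintype.card_fin, hc] at hle
    by_contra hlt
    have : 2 ^ (1 + 2 * k) ≤ 2 ^ 7 := Nat.pow_le_pow_right two_pos (by omega)
    norm_num at this
    nlinarith
  have central : ∀ x ∈ R, (∀ y ∈ R, x * y = y * x) → PM x 1 := fun x hx hxc => by
    obtain ⟨c, e⟩ := irr x fun s hs' => congrArg Units.val (hxc s hs')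
    exact sp_scalar (by omega) (hR hx) e
  have cen : ∀ z ∈ Subgroup.center R, PM (z : GL (Fin m ⊕ Fin m) F) 1 := fun z hz' => central z z.2 fun y hy =>
    (congrArg Subtype.val (Subgroup.mem_center_iff.1 hz' ⟨y, hy⟩)).symm
  have hcomm : ∀ x ∈ R, ∀ y ∈ R, x * y = y * x ∨ x * y = -(y * x) := fun x hx y hy => by
    have e := cen _ (commutators_central hs.pGroup h4 hs.cyclic_of_characteristic hz ⟨x, hx⟩ ⟨y, hy⟩)
    simp only [Subgroup.coe_mul, InvMemClass.coe_inv] at e
    rcases e with e | e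
    · left; rw [mul_inv_eq_one, mul_inv_eq_iff_eq_mul] at e; exact e
    · right; rw [mul_inv_eq_iff_eq_mul, mul_inv_eq_iff_eq_mul, neg_one_mul, neg_mul] at e; exact e
  have hsq : ∀ x ∈ R, PM (x * x) 1 := fun x hx => by
    have e := cen _ (squares_central hs.pGroup h4 hs.cyclic_of_characteristic hz ⟨x, hx⟩)
    simpa [pow_two] using e
  have hneg : -1 ∈ R := by
    obtain ⟨z, hz', hz1⟩ : ∃ z : R, z ∈ Subgroup.center R ∧ z ≠ 1 := by
      obtain ⟨w, hw, -⟩ := Nat.card_eq_two_iff' (1 : Subgroup.center R) |>.1 hz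
      exact ⟨w.1, w.2, fun e => hw (Subtype.ext e)⟩
    rcases cen z hz' with e | e
    · exact absurd (Subtype.ext e) hz1
    · exact e ▸ z.2
  have helem : ∀ C ≤ R, (∀ x ∈ C, x * x = 1) → Nat.card C ≤ 2 ^ k := fun C hC hinv => by
    haveI : Finite C := Finite.of_injective _ (inclusion_injective hC)
    let A : Subgroup R := C.subgroupOf R
    have hA2 : ∀ x ∈ A, x * x = 1 := fun x hx => Subtype.ext (hinv _ (Subgroup.mem_subgroupOf.1 hx))
    have hAc : IsMulCommutative A := ⟨⟨fun x y => Subtype.ext (by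
      show x.1 * y.1 = y.1 * x.1
      have hi : ∀ w ∈ A, w⁻¹ = w := fun w hw => inv_eq_of_mul_eq_one_right (hA2 w hw)
      rw [← hi _ (mul_mem x.2 y.2), _root_.mul_inv_rev, hi _ x.2, hi _ y.2])⟩⟩
    have h := hminus A hAc hA2
    rw [Nat.card_congr (Subgroup.subgroupOfEquivOfLe hC).toEquiv] at h
    obtain ⟨j, hj⟩ := IsPGroup.iff_card.1 (show IsPGroup 2 C from fun x => ⟨1, Subtype.ext (by
      rw [pow_one, pow_two]; exact hinv x x.2)⟩)
    rw [hj] at h ⊢
    exact Nat.pow_le_pow_right two_pos (Nat.lt_succ_iff.1 ((Nat.pow_lt_pow_iff_right one_lt_two).1 h))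
  refine ⟨⟨h2, hn, inferInstance, hneg, hcomm, hsq, central, irr, fun C hC hinv => ?_, ?_⟩, hc, by omega, helem⟩
  · have h := helem C hC hinv
    rw [hc]
    calc Nat.card C * 8 ≤ 2 ^ k * 2 ^ 3 := Nat.mul_le_mul h (by norm_num)
      _ < _ := by rw [← pow_add]; exact Nat.pow_lt_pow_right (by norm_num) (by omega)
  · rw [hc]
    exact le_trans (by norm_num) (Nat.pow_le_pow_right two_pos (show 7 ≤ 1 + 2 * k by omega))

/-- The normaliser of `2^(1+2k)` of minus type is maximal in the symplectic group of degree at least fourteen. -/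
theorem extraspecial_maximal {m k : ℕ} (hm : 7 ≤ m) (hp : (Fintype.card F).Prime) (hodd : Odd (Fintype.card F))
    (R : Subgroup (GL (Fin m ⊕ Fin m) F)) (hs : IsSymplecticTypeGroup 2 R)
    (hi : ActsAbsolutelyIrreducibly (matrixSet R)) (hR : R ≤ Cfsg.spGL m F) (hc : Nat.card R = 2 ^ (1 + 2 * k))
    (hz : Nat.card (Subgroup.center R) = 2) (hminus : IsOfMinusType k R) :
    IsMaximalIn (Cfsg.spGL m F) (subgroupNormalizer R ⊓ Cfsg.spGL m F) := by
  have h2 : (2 : F) ≠ 0 := CfsgLib.FiniteForms.two_ne_zero_of_odd (F := F) rfl hodd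
  have S := minus_of_hyp hm h2 hs hi hR hc hz hminus
  refine ⟨lt_of_le_of_ne inf_le_right fun e => normalizer_ne (by omega) S hR fun x hx => (e.ge hx).1,
    fun H hH hHS => ?_⟩
  by_cases hH' : H = Cfsg.spGL m F
  · exact Or.inr hH'
  exact Or.inl (le_antisymm (le_inf (maxAt hp S.le m R H S hR hH hHS hH') hHS) hH)

end CfsgLib.MaxSub.Extra.Gen
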