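import Cfsg.Agent.Lib.MaxSub.Extra.Gen.Sign

/-!
Elements acting as a member of the group on the fixed space of one of its involutions and trivially on the negated
space; groups of minus type.
-/

set_option autoImplicit false

namespace CfsgLib.MaxSub.Extra.Gen

open Matrix Subgroup

variable {F : Type*} [Field F] {ι : Type} [Fintype ι] [DecidableEq ι]

local notation "M" => Matrix ι ι F

/-- The matrix equal to `e` on the fixed space of `a` and to one on the negated space. -/
noncomputable def rootMat (a e : GL ι F) : Matrix ι ι F := (2 : F)⁻¹ • (e.1 * plus a + minus a)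

theorem root_inv_mul {a e f : GL ι F} (h2 : (2 : F) ≠ 0) (haa : a * a = 1) (hfa : f * a = a * f) (hef : e * f = 1) :
    rootMat a e * rootMat a f = 1 := by
  have aa : (a : M) * a = 1 := congrArg Units.val haa
  have hp : plus a * plus a = (2 : F) • plus a := by
    simp [plus, Matrix.mul_add, Matrix.add_mul, aa, two_smul]; abel
  have hm : minus a * minus a = (2 : F) • minus a := by
    simp [minus, Matrix.mul_sub, Matrix.sub_mul, aa, two_smul]; abel
  have e1 : e.1 * f.1 = 1 := congrArg Units.val hef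
  obtain ⟨c1, c2⟩ := plus_comm hfa
  obtain ⟨d1, d2⟩ := minus_plus haa
  have key : (e.1 * plus a + minus a) * (f.1 * plus a + minus a) = (2 : F) • (plus a + minus a) := by
    rw [Matrix.add_mul, Matrix.mul_add, Matrix.mul_add, Matrix.mul_assoc e.1, ← Matrix.mul_assoc (plus a) f.1,
      ← c1, Matrix.mul_assoc f.1, hp, Matrix.mul_smul, Matrix.mul_smul, ← Matrix.mul_assoc e.1, e1, Matrix.one_mul,
      Matrix.mul_assoc e.1 (plus a), d2, Matrix.mul_zero, add_zero, ← Matrix.mul_assoc (minus a), ← c2,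
      Matrix.mul_assoc f.1, d1, Matrix.mul_zero, zero_add, hm, smul_add]
  have hpm : plus a + minus a = (2 : F) • (1 : M) := by rw [plus, minus, two_smul]; abel
  rw [rootMat, rootMat, Matrix.smul_mul, Matrix.mul_smul, smul_smul, key, hpm, smul_smul, smul_smul]
  convert one_smul F (1 : M)
  field_simp

/-- Equal to `e` on the fixed space of `a`, one on the negated space (junk unless `a` is an involution commuting
with `e`). -/
noncomputable def rootEl (a e : GL ι F) : GL ι F := by
  classical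
  exact if h : (2 : F) ≠ 0 ∧ a * a = 1 ∧ e * a = a * e then
    ⟨rootMat a e, rootMat a e⁻¹,
      root_inv_mul h.1 h.2.1 (Commute.inv_left (show Commute e a from h.2.2)).eq (mul_inv_cancel e),
      root_inv_mul h.1 h.2.1 h.2.2 (inv_mul_cancel e)⟩
  else 1

variable {a e : GL ι F}

theorem rootEl_val (h2 : (2 : F) ≠ 0) (haa : a * a = 1) (hea : e * a = a * e) : (rootEl a e).1 = rootMat a e := by
  classical
  rw [rootEl, dif_pos ⟨h2, haa, hea⟩]

theorem rootEl_comm (h2 : (2 : F) ≠ 0) (haa : a * a = 1) (hea : e * a = a * e) {x : GL ι F} (hxa : x * a = a * x)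
    (hxe : x * e = e * x) : x * rootEl a e = rootEl a e * x := by
  refine Units.ext ?_
  rw [Units.val_mul, Units.val_mul, rootEl_val h2 haa hea, rootMat, Matrix.mul_smul, Matrix.smul_mul]
  obtain ⟨c1, c2⟩ := plus_comm hxa
  have e1 : x.1 * e.1 = e.1 * x.1 := congrArg Units.val hxe
  rw [Matrix.mul_add, Matrix.add_mul, ← Matrix.mul_assoc, e1, Matrix.mul_assoc, c1, ← Matrix.mul_assoc, c2]

theorem rootEl_conj (h2 : (2 : F) ≠ 0) (haa : a * a = 1) (hea : e * a = a * e) (y : GL ι F) :
    y * rootEl a e * y⁻¹ = rootEl (y * a * y⁻¹) (y * e * y⁻¹) := by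
  refine Units.ext ?_
  have h1 : y * a * y⁻¹ * (y * a * y⁻¹) = 1 := by
    rw [show y * a * y⁻¹ * (y * a * y⁻¹) = y * (a * a) * y⁻¹ by group, haa, mul_one, mul_inv_cancel]
  have h3 : y * e * y⁻¹ * (y * a * y⁻¹) = y * a * y⁻¹ * (y * e * y⁻¹) := by
    rw [show y * e * y⁻¹ * (y * a * y⁻¹) = y * (e * a) * y⁻¹ by group, hea]; group
  rw [rootEl_val h2 h1 h3, Units.val_mul, Units.val_mul, rootEl_val h2 haa hea]
  simp only [rootMat, plus, minus, Units.val_mul, Matrix.mul_smul, Matrix.smul_mul, Matrix.mul_add, Matrix.add_mul,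
    Matrix.mul_sub, Matrix.sub_mul, Matrix.mul_one, Matrix.one_mul, ← Matrix.mul_assoc, Units.mul_inv]
  congr 1
  simp only [Matrix.mul_assoc, Units.inv_mul_cancel_left]

theorem rootEl_plus (h2 : (2 : F) ≠ 0) (haa : a * a = 1) (hea : e * a = a * e) :
    Ag a (rootEl a e) e ∧ Ag (-a) (rootEl a e) 1 := by
  have aa : (a : M) * a = 1 := congrArg Units.val haa
  obtain ⟨d1, d2⟩ := minus_plus haa
  constructor
  · unfold Ag
    rw [rootEl_val h2 haa hea, rootMat, Matrix.smul_mul, Matrix.add_mul, d1, add_zero, Matrix.mul_assoc,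
      show plus a * plus a = (2 : F) • plus a by simp [plus, Matrix.mul_add, Matrix.add_mul, aa, two_smul]; abel,
      Matrix.mul_smul, inv_smul_smul₀ h2]
  · unfold Ag
    rw [plus_neg, rootEl_val h2 haa hea, rootMat, Matrix.smul_mul, Matrix.add_mul, Matrix.mul_assoc, d2,
      Matrix.mul_zero, zero_add,
      show minus a * minus a = (2 : F) • minus a by simp [minus, Matrix.mul_sub, Matrix.sub_mul, aa, two_smul]; abel,
      inv_smul_smul₀ h2, Units.val_one, Matrix.one_mul]

theorem ag_mul_self (haa : a * a = 1) : Ag a a 1 ∧ Ag (-a) a (-1) := by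
  have e : (a : M) * a = 1 := congrArg Units.val haa
  constructor
  · simp [Ag, plus, Matrix.mul_add, e, add_comm]
  · simp [Ag, plus, Matrix.mul_add, e, add_comm, sub_eq_add_neg]

variable {R : Subgroup (GL ι F)}

/-- A group of minus type of order `2^(1+2k)`. -/
structure Minus (k : ℕ) (R : Subgroup (GL ι F)) : Prop where
  ext : Ext R
  card : Nat.card R = 2 ^ (1 + 2 * k)
  le : 3 ≤ k
  elemk : ∀ C ≤ R, (∀ x ∈ C, x * x = 1) → Nat.card C ≤ 2 ^ k

end CfsgLib.MaxSub.Extra.Gen

namespace CfsgLib.MaxSub.Extra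

open Matrix Subgroup Gen

namespace Ext

variable {F : Type*} [Field F] {ι : Type} [Fintype ι] [DecidableEq ι] {R : Subgroup (GL ι F)} (X : Ext R)
include X

theorem root_fix {a e x : GL ι F} (hR : a ∈ R ∧ e ∈ R ∧ x ∈ R) (haa : a * a = 1) (hea : sg e a = 1)
    (hxa : sg x a = 1) (hxe : sg x e = 1) : rootEl a e * x * (rootEl a e)⁻¹ = x := by
  rw [← rootEl_comm X.two haa (sg_one_iff.1 hea) (sg_one_iff.1 hxa) (sg_one_iff.1 hxe), mul_inv_cancel_right]

theorem root_move {a e x : GL ι F} (hR : a ∈ R ∧ e ∈ R ∧ x ∈ R) (haa : a * a = 1) (hea : sg e a = 1)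
    (hxa : sg x a = 1) (hxe : sg x e = -1) :
    PM (rootEl a e * x * (rootEl a e)⁻¹) (a * x) := by
  have hea := sg_one_iff.1 hea
  have hxa := sg_one_iff.1 hxa
  have hxe := X.anti_of_sg hR.2.2 hR.2.1 hxe
  obtain ⟨h1, h2⟩ := rootEl_plus X.two haa hea
  obtain ⟨g1, g2⟩ := ag_mul_self (F := F) haa
  set s := rootEl a e
  refine Or.inr ?_
  suffices h : s * x = -(a * x) * s by rw [h, mul_inv_cancel_right]
  have hxn : x * -a = -a * x := by rw [mul_neg, neg_mul, hxa]
  refine Ag.eq (z := a) ?_ ?_ X.two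
  · have l := h1.mul (Ag.refl x) hxa
    have r := (show Ag a (-(a * x)) (-x) from by
      have := g1.mul (Ag.refl x) hxa
      unfold Ag at this ⊢
      rw [one_mul] at this
      rw [Units.val_neg, Units.val_neg, Matrix.neg_mul, Matrix.neg_mul, this]).mul h1 hea
    rw [show e * x = -x * e by rw [neg_mul, hxe, neg_neg]] at l
    exact l.trans r.symm
  · have l := h2.mul (Ag.refl x) hxn
    have r := (show Ag (-a) (-(a * x)) x from by
      have := g2.mul (Ag.refl x) hxn
      unfold Ag at this ⊢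
      rw [neg_mul, one_mul] at this
      rw [Units.val_neg, Matrix.neg_mul, this, Units.val_neg, Matrix.neg_mul, neg_neg]).mul h2 (by rw [one_mul, mul_one])
    rw [one_mul] at l
    rw [mul_one] at r
    exact l.trans r.symm

theorem pm_inv {x : GL ι F} (hx : x ∈ R) : PM x⁻¹ x := by
  have := (X.sq x hx).symm.mul (PM.refl x⁻¹)
  rwa [one_mul, mul_inv_cancel_right] at this

/-- The root elements normalise the group. -/
theorem root_norm {a e : GL ι F} (ha : a ∈ R) (he : e ∈ R) (haa : a * a = 1) (hea : sg e a = 1) :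
    rootEl a e ∈ normalizer (R : Set (GL ι F)) := by
  haveI := X.fin
  set s := rootEl a e
  have hmap : R.map (MulAut.conj s).toMonoidHom ≤ R := by
    rintro _ ⟨x, hx, rfl⟩
    show s * x * s⁻¹ ∈ R
    rcases sg_cases x a with hxa | hxa
    · rcases sg_cases x e with hxe | hxe
      · rw [X.root_fix ⟨ha, he, hx⟩ haa hea hxa hxe]; exact hx
      · exact X.mem_pm (X.root_move ⟨ha, he, hx⟩ haa hea hxa hxe) (mul_mem ha hx)
    have hea' := sg_one_iff.1 hea
    have hxa' := X.anti_of_sg hx ha hxa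
    obtain ⟨h1, h2⟩ := rootEl_plus X.two haa hea'
    obtain ⟨g1, g2⟩ := ag_mul_self (F := F) haa
    have hei : e⁻¹ * a = a * e⁻¹ := (Commute.inv_left (show Commute e a from hea')).eq
    have i1 := h1.inv hea'
    have i2 := h2.inv (by rw [one_mul, mul_one])
    -- the conjugate is `x * e⁻¹` on one space and `e * x` on the other
    have k1 : Ag a (s * x * s⁻¹) (x * e⁻¹) := by
      have l : (s : Matrix ι ι F) * (x : Matrix ι ι F) * plus a = (x : Matrix ι ι F) * plus a := by
        rw [Matrix.mul_assoc, (plus_anti hxa').1, ← Matrix.mul_assoc,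
          show (s : Matrix ι ι F) * minus a = minus a by
            have := h2; rw [Ag, plus_neg, Units.val_one, Matrix.one_mul] at this; exact this]
      unfold Ag at i1 ⊢
      rw [Units.val_mul, Units.val_mul, Units.val_mul, Matrix.mul_assoc, i1, (plus_comm hei).1, ← Matrix.mul_assoc, l,
        Matrix.mul_assoc, ← (plus_comm hei).1, ← Matrix.mul_assoc]
    have k2 : Ag (-a) (s * x * s⁻¹) (e * x) := by
      unfold Ag at i2 ⊢
      rw [plus_neg] at i2 ⊢
      rw [inv_one, Units.val_one, Matrix.one_mul] at i2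
      rw [Units.val_mul, Units.val_mul, Units.val_mul, Matrix.mul_assoc, i2, Matrix.mul_assoc, (plus_anti hxa').2,
        ← Matrix.mul_assoc, h1, Matrix.mul_assoc, ← (plus_anti hxa').2, ← Matrix.mul_assoc]
    have hw : PM (e * x) (x * e⁻¹) :=
      PM.trans (show PM (e * x) (x * e) from X.comm e he x hx) ((PM.refl x).mul (X.pm_inv he).symm)
    rcases hw with hw | hw <;> rw [hw] at k2
    · rw [Ag.eq k1 k2 X.two]; exact mul_mem hx (inv_mem he)
    · have hxea : x * e⁻¹ * a ∈ R := mul_mem (mul_mem hx (inv_mem he)) ha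
      have r1 := (Ag.refl (x * e⁻¹)).mul g1 (by rw [one_mul, mul_one])
      have r2 := (Ag.refl (x * e⁻¹)).mul g2 (by simp only [neg_mul, mul_neg, neg_neg, one_mul, mul_one])
      rw [mul_one] at r1
      rw [mul_neg_one] at r2
      rw [Ag.eq (k1.trans r1.symm) (k2.trans r2.symm) X.two]
      exact hxea
  have hmap' : R.map (MulAut.conj s).toMonoidHom = R := Subgroup.eq_of_le_of_card_ge hmap
    (le_of_eq (Nat.card_congr (R.equivMapOfInjective _ (MulAut.conj s).injective).toEquiv))
  rw [Subgroup.mem_normalizer_iff]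
  refine fun x => ⟨fun hx => hmap ⟨x, hx, rfl⟩, fun hx => ?_⟩
  obtain ⟨x', hx', e'⟩ := (SetLike.ext_iff.1 hmap' (s * x * s⁻¹)).2 hx
  rwa [← (MulAut.conj s).injective e']

end Ext

end CfsgLib.MaxSub.Extra
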