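import Cfsg.Agent.Lib.MaxSub.Extra.Fusion

/-!
The commutator signs of a symplectic-type two-group with centre of order two: the order of the centraliser of a
subgroup containing `-1`, and the double centraliser.
-/

set_option autoImplicit false

namespace CfsgLib.MaxSub.Extra.Gen

open Matrix Subgroup

variable {F : Type*} [Field F] {ι : Type} [Fintype ι] [DecidableEq ι]

open Classical in
/-- `1` for commuting and `-1` for other pairs. -/
noncomputable def sg (x y : GL ι F) : ℤ := if x * y = y * x then 1 else -1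

theorem sg_one_iff {x y : GL ι F} : sg x y = 1 ↔ x * y = y * x := by
  unfold sg; split_ifs with h <;> simp [h]

theorem sg_neg_iff {x y : GL ι F} : sg x y = -1 ↔ ¬ x * y = y * x := by
  unfold sg; split_ifs with h <;> simp [h]

theorem sg_cases (x y : GL ι F) : sg x y = 1 ∨ sg x y = -1 := by
  unfold sg; split_ifs <;> simp

theorem sg_comm (x y : GL ι F) : sg x y = sg y x := by
  rcases sg_cases x y with h | h <;> rw [h]
  · exact (sg_one_iff.2 (sg_one_iff.1 h).symm).symm
  · exact (sg_neg_iff.2 fun e => sg_neg_iff.1 h e.symm).symm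

theorem sg_self (x : GL ι F) : sg x x = 1 := sg_one_iff.2 rfl

theorem sg_conj (g x y : GL ι F) : sg (g * x * g⁻¹) (g * y * g⁻¹) = sg x y := by
  have key : g * x * g⁻¹ * (g * y * g⁻¹) = g * y * g⁻¹ * (g * x * g⁻¹) ↔ x * y = y * x := by
    rw [show g * x * g⁻¹ * (g * y * g⁻¹) = g * (x * y) * g⁻¹ by group,
      show g * y * g⁻¹ * (g * x * g⁻¹) = g * (y * x) * g⁻¹ by group]
    simp
  classical
  unfold sg
  exact if_congr key rfl rfl

theorem sg_pm {x y y' : GL ι F} (h : PM y' y) : sg x y' = sg x y := by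
  rcases h with rfl | rfl
  · rfl
  · have key : x * -y = -y * x ↔ x * y = y * x := by rw [mul_neg, neg_mul, neg_inj]
    classical
    unfold sg
    exact if_congr key rfl rfl

theorem sg_sq (x y : GL ι F) : sg x y * sg x y = 1 := by
  rcases sg_cases x y with h | h <;> rw [h] <;> norm_num

/-- An element anticommuting with `a` differs from `±1` and `±b` whenever `b` commutes with it. -/
theorem not_pm_of_sg {r a b : GL ι F} (ha : sg r a = -1) (hb : sg r b = 1) : ¬ PM a b := fun h => by
  rw [sg_pm h, hb] at ha; norm_num at ha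

theorem sg_one_right (x : GL ι F) : sg x 1 = 1 := sg_one_iff.2 (by rw [mul_one, one_mul])

variable {R : Subgroup (GL ι F)}

/-- The elements commuting with all of `E`. -/
abbrev cen (R E : Subgroup (GL ι F)) : Subgroup (GL ι F) := R ⊓ centralizer (E : Set (GL ι F))

theorem mem_cen {E : Subgroup (GL ι F)} {r : GL ι F} :
    r ∈ cen R E ↔ r ∈ R ∧ ∀ e ∈ E, e * r = r * e := by
  simp [cen, Subgroup.mem_inf, mem_centralizer_iff]

theorem mem_cen_one {a r : GL ι F} :
    r ∈ R ⊓ centralizer {a} ↔ r ∈ R ∧ r * a = a * r := by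
  rw [Subgroup.mem_inf, mem_centralizer_singleton_iff]

end CfsgLib.MaxSub.Extra.Gen

namespace CfsgLib.MaxSub.Extra

open Matrix Subgroup

namespace Ext

open Gen

variable {F : Type*} [Field F] {ι : Type} [Fintype ι] [DecidableEq ι] {R : Subgroup (GL ι F)} (X : Ext R)
include X

theorem anti_of_sg {x y : GL ι F} (hx : x ∈ R) (hy : y ∈ R) (h : sg x y = -1) : x * y = -(y * x) :=
  (X.comm x hx y hy).resolve_left (sg_neg_iff.1 h)

theorem sg_of_anti {x y : GL ι F} (h : x * y = -(y * x)) : sg x y = -1 :=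
  sg_neg_iff.2 fun e => X.ne_neg (y * x) (e.symm.trans h)

theorem sg_mul_right {x y z : GL ι F} (hx : x ∈ R) (hy : y ∈ R) (hz : z ∈ R) :
    sg x (y * z) = sg x y * sg x z := by
  rcases sg_cases x y with h | h <;> rcases sg_cases x z with h' | h' <;> rw [h, h']
  · rw [one_mul]
    exact sg_one_iff.2 ((show Commute x y from sg_one_iff.1 h).mul_right (sg_one_iff.1 h')).eq
  · rw [one_mul]
    refine X.sg_of_anti ?_
    rw [← mul_assoc, sg_one_iff.1 h, mul_assoc, X.anti_of_sg hx hz h', mul_neg, mul_assoc]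
  · rw [mul_one]
    refine X.sg_of_anti ?_
    rw [← mul_assoc, X.anti_of_sg hx hy h, neg_mul, mul_assoc, sg_one_iff.1 h', mul_assoc]
  · rw [show (-1 : ℤ) * -1 = 1 by norm_num]
    refine sg_one_iff.2 ?_
    rw [← mul_assoc, X.anti_of_sg hx hy h, neg_mul, mul_assoc, X.anti_of_sg hx hz h', mul_neg, neg_neg, mul_assoc]

theorem sg_mul_left {x y z : GL ι F} (hx : x ∈ R) (hy : y ∈ R) (hz : z ∈ R) :
    sg (x * y) z = sg x z * sg y z := by
  rw [sg_comm, X.sg_mul_right hz hx hy, sg_comm z x, sg_comm z y]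

theorem sg_inv_right {x y : GL ι F} (hx : x ∈ R) (hy : y ∈ R) : sg x y⁻¹ = sg x y := by
  have h := X.sg_mul_right hx hy (inv_mem hy)
  rw [mul_inv_cancel, sg_one_right] at h
  rcases sg_cases x y with e | e <;> rw [e] at h ⊢ <;> omega

theorem pm_one_of_sg {x : GL ι F} (hx : x ∈ R) (h : ∀ r ∈ R, sg x r = 1) : PM x 1 :=
  X.central x hx fun r hr => sg_one_iff.1 (h r hr)

/-- The centraliser of a subgroup containing `-1` has the complementary order. -/
theorem cent_card {E : Subgroup (GL ι F)} (hE : E ≤ R) (hneg : -1 ∈ E) :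
    Nat.card ↥(cen R E) * Nat.card E = 2 * Nat.card R := by
  classical
  haveI := X.fin
  haveI : Finite E := Finite.of_injective _ (inclusion_injective hE)
  haveI := Fintype.ofFinite R
  haveI := Fintype.ofFinite E
  haveI : Finite ↥(cen R E) := Finite.of_injective _ (inclusion_injective (inf_le_left : cen R E ≤ R))
  haveI := Fintype.ofFinite ↥(cen R E)
  have row : ∀ r : R, ∑ e : E, sg (r : GL ι F) e = if (r : GL ι F) ∈ cen R E then (Fintype.card E : ℤ) else 0 :=
    fun r => by
    split_ifs with h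
    · rw [Finset.sum_congr rfl fun e _ => sg_one_iff.2 ((mem_cen.1 h).2 _ e.2).symm, Finset.sum_const,
        Finset.card_univ, nsmul_eq_mul, mul_one]
    · obtain ⟨e₀, he₀, h0⟩ : ∃ e₀ ∈ E, ¬ e₀ * (r : GL ι F) = r * e₀ := by
        by_contra! hh
        exact h (mem_cen.2 ⟨r.2, hh⟩)
      have e1 : ∑ e : E, sg (r : GL ι F) e = ∑ e : E, sg (r : GL ι F) ((⟨e₀, he₀⟩ * e : E) : GL ι F) :=
        (Equiv.sum_comp (Equiv.mulLeft (⟨e₀, he₀⟩ : E)) fun e : E => sg (r : GL ι F) e).symm
      have e2 : ∀ e : E, sg (r : GL ι F) ((⟨e₀, he₀⟩ * e : E) : GL ι F) = -sg (r : GL ι F) e := fun e => by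
        rw [Subgroup.coe_mul, X.sg_mul_right r.2 (hE he₀) (hE e.2), sg_neg_iff.2 fun e' => h0 e'.symm, neg_one_mul]
      simp only [e2, Finset.sum_neg_distrib] at e1
      omega
  have col : ∀ e : E, ∑ r : R, sg (r : GL ι F) e = if PM (e : GL ι F) 1 then (Fintype.card R : ℤ) else 0 :=
    fun e => by
    split_ifs with h
    · rw [Finset.sum_congr rfl fun r _ => (sg_pm h).trans (sg_one_right _), Finset.sum_const, Finset.card_univ,
        nsmul_eq_mul, mul_one]
    · obtain ⟨r₀, hr₀, h0⟩ := X.anti (hE e.2) h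
      have e1 : ∑ r : R, sg (r : GL ι F) e = ∑ r : R, sg ((⟨r₀, hr₀⟩ * r : R) : GL ι F) e :=
        (Equiv.sum_comp (Equiv.mulLeft (⟨r₀, hr₀⟩ : R)) fun r : R => sg (r : GL ι F) e).symm
      have e2 : ∀ r : R, sg ((⟨r₀, hr₀⟩ * r : R) : GL ι F) e = -sg (r : GL ι F) e := fun r => by
        rw [Subgroup.coe_mul, X.sg_mul_left hr₀ r.2 (hE e.2), X.sg_of_anti h0, neg_one_mul]
      simp only [e2, Finset.sum_neg_distrib] at e1
      omega
  have hs : ∑ r : R, ∑ e : E, sg (r : GL ι F) e = ∑ e : E, ∑ r : R, sg (r : GL ι F) e := Finset.sum_comm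
  simp only [row, col, Finset.sum_ite, Finset.sum_const_zero, add_zero, Finset.sum_const, nsmul_eq_mul] at hs
  have c1 : (Finset.univ.filter fun r : R => (r : GL ι F) ∈ cen R E).card = Nat.card ↥(cen R E) := by
    rw [← Fintype.card_subtype, ← Nat.card_eq_fintype_card]
    exact Nat.card_congr ⟨fun r => ⟨r.1.1, r.2⟩, fun r => ⟨⟨r.1, r.2.1⟩, r.2⟩, fun r => rfl, fun r => rfl⟩
  have c2 : (Finset.univ.filter fun e : E => PM (e : GL ι F) 1).card = 2 := by
    rw [show (Finset.univ.filter fun e : E => PM (e : GL ι F) 1) = {1, ⟨-1, hneg⟩} by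
      ext e
      rw [Finset.mem_filter, Finset.mem_insert, Finset.mem_singleton]
      refine ⟨fun h => h.2.imp Subtype.ext Subtype.ext, fun h => ⟨Finset.mem_univ _, ?_⟩⟩
      exact h.imp (fun h => congrArg Subtype.val h) (fun h => congrArg Subtype.val h)]
    exact Finset.card_pair fun e => X.one_ne_neg (congrArg Subtype.val e)
  rw [c1, c2, ← Nat.card_eq_fintype_card, ← Nat.card_eq_fintype_card] at hs
  exact_mod_cast hs

theorem cen_antitone {E E' : Subgroup (GL ι F)} (h : E ≤ E') : cen R E' ≤ cen R E :=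
  inf_le_inf le_rfl (centralizer_le h)

theorem neg_mem_cen {E : Subgroup (GL ι F)} : -1 ∈ cen R E :=
  mem_cen.2 ⟨X.neg, fun e _ => by rw [mul_neg, neg_mul, mul_one, one_mul]⟩

/-- The double centraliser. -/
theorem mem_of_cent {E : Subgroup (GL ι F)} (hE : E ≤ R) (hneg : -1 ∈ E) {x : GL ι F} (hx : x ∈ R)
    (h : ∀ r ∈ cen R E, sg r x = 1) : x ∈ E := by
  haveI := X.fin
  set E' := cen R (cen R E) with hE'
  have hle : E ≤ E' := fun e he => mem_cen.2 ⟨hE he, fun r hr => ((mem_cen.1 hr).2 e he).symm⟩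
  haveI : Finite E' := Finite.of_injective _ (inclusion_injective (inf_le_left : E' ≤ R))
  have h1 := X.cent_card hE hneg
  have h2 := X.cent_card (inf_le_left : E' ≤ R) X.neg_mem_cen
  have h3 : cen R E ≤ cen R E' := fun r hr =>
    mem_cen.2 ⟨(mem_cen.1 hr).1, fun e he => ((mem_cen.1 he).2 r hr).symm⟩
  haveI : Finite ↥(cen R E') := Finite.of_injective _ (inclusion_injective (inf_le_left : cen R E' ≤ R))
  haveI : Finite ↥(cen R E) := Finite.of_injective _ (inclusion_injective (inf_le_left : cen R E ≤ R))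
  have h4 := Subgroup.card_le_of_le h3
  have hEE : Nat.card E' ≤ Nat.card E := by
    by_contra hlt
    push Not at hlt
    have := Nat.mul_lt_mul_of_le_of_lt h4 hlt Nat.card_pos
    rw [h1, h2] at this
    exact lt_irrefl _ this
  have hxE : x ∈ E' := mem_cen.2 ⟨hx, fun r hr => sg_one_iff.1 (h r hr)⟩
  rwa [← Subgroup.eq_of_le_of_card_ge hle hEE] at hxE

theorem exists_anti_cent {E : Subgroup (GL ι F)} (hE : E ≤ R) (hneg : -1 ∈ E) {x : GL ι F} (hx : x ∈ R)
    (h : x ∉ E) : ∃ r ∈ R, (∀ e ∈ E, sg r e = 1) ∧ sg r x = -1 := by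
  by_contra! hh
  refine h (X.mem_of_cent hE hneg hx fun r hr => (sg_cases r x).resolve_right fun e => hh r (mem_cen.1 hr).1
    (fun e' he' => sg_one_iff.2 ((mem_cen.1 hr).2 e' he').symm) e)

/-- The subgroup of elements agreeing up to sign with `1`, `a`, `c` or `a * c`. -/
def span (a c : GL ι F) (ha : a ∈ R) (hc : c ∈ R) : Subgroup (GL ι F) where
  carrier := {x | PM x 1 ∨ PM x a ∨ PM x c ∨ PM x (a * c)}
  one_mem' := Or.inl (PM.refl 1)
  mul_mem' := fun {x y} hx hy => by
    have aa := X.sq a ha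
    have cc := X.sq c hc
    have ca : PM (c * a) (a * c) := X.comm c hc a ha
    have one : ∀ w : GL ι F, PM (1 * w) w ∧ PM (w * 1) w := fun w =>
      ⟨by rw [one_mul]; exact PM.refl _, by rw [mul_one]; exact PM.refl _⟩
    have aac : PM (a * (a * c)) c := by
      rw [← mul_assoc]; exact (aa.mul (PM.refl c)).trans (one c).1
    have acc : PM (a * c * c) a := by
      rw [mul_assoc]; exact ((PM.refl a).mul cc).trans (one a).2
    have cac : PM (c * (a * c)) a := by
      rw [← mul_assoc]; exact (ca.mul (PM.refl c)).trans acc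
    have aca : PM (a * c * a) c := by
      rw [mul_assoc]; exact ((PM.refl a).mul ca).trans aac
    have acac : PM (a * c * (a * c)) 1 := X.sq _ (mul_mem ha hc)
    rcases hx with e | e | e | e <;> rcases hy with e' | e' | e' | e' <;> have m := e.mul e' <;>
      simp only [Set.mem_setOf_eq]
    · exact Or.inl (m.trans (one 1).1)
    · exact Or.inr (Or.inl (m.trans (one a).1))
    · exact Or.inr (Or.inr (Or.inl (m.trans (one c).1)))
    · exact Or.inr (Or.inr (Or.inr (m.trans (one _).1)))
    · exact Or.inr (Or.inl (m.trans (one a).2))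
    · exact Or.inl (m.trans aa)
    · exact Or.inr (Or.inr (Or.inr m))
    · exact Or.inr (Or.inr (Or.inl (m.trans aac)))
    · exact Or.inr (Or.inr (Or.inl (m.trans (one c).2)))
    · exact Or.inr (Or.inr (Or.inr (m.trans ca)))
    · exact Or.inl (m.trans cc)
    · exact Or.inr (Or.inl (m.trans cac))
    · exact Or.inr (Or.inr (Or.inr (m.trans (one _).2)))
    · exact Or.inr (Or.inr (Or.inl (m.trans aca)))
    · exact Or.inr (Or.inl (m.trans acc))
    · exact Or.inl (m.trans acac)
  inv_mem' := fun {x} hx => by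
    have hi : ∀ w ∈ R, PM w⁻¹ w := fun w hw => by
      have := (X.sq w hw).symm.mul (PM.refl w⁻¹)
      rwa [one_mul, mul_inv_cancel_right] at this
    rcases hx with e | e | e | e <;> have m := e.inv
    · exact Or.inl (m.trans (hi 1 (one_mem R)))
    · exact Or.inr (Or.inl (m.trans (hi a ha)))
    · exact Or.inr (Or.inr (Or.inl (m.trans (hi c hc))))
    · exact Or.inr (Or.inr (Or.inr (m.trans (hi _ (mul_mem ha hc)))))

variable {a c : GL ι F} (ha : a ∈ R) (hc : c ∈ R)

theorem span_le : X.span a c ha hc ≤ R := fun x hx => by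
  rcases hx with e | e | e | e
  exacts [X.mem_pm e (one_mem R), X.mem_pm e ha, X.mem_pm e hc, X.mem_pm e (mul_mem ha hc)]

theorem span_neg : -1 ∈ X.span a c ha hc := Or.inl (PM.negl 1)

theorem span_card : Nat.card ↥(X.span a c ha hc) ≤ 8 := by
  classical
  let L : List (GL ι F) := [1, -1, a, -a, c, -c, a * c, -(a * c)]
  have hmem : ∀ x : X.span a c ha hc, (x : GL ι F) ∈ L.toFinset := fun x => by
    rw [List.mem_toFinset]
    rcases x.2 with e | e | e | e <;> rcases e with e | e <;> rw [e] <;> simp [L]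
  have := Nat.card_le_card_of_injective (fun x : X.span a c ha hc => (⟨x, hmem x⟩ : L.toFinset))
    (fun x y e => Subtype.ext (congrArg (fun u : L.toFinset => (u : GL ι F)) e))
  rw [Nat.card_eq_finsetCard] at this
  exact this.trans (List.toFinset_card_le L)

end Ext

end CfsgLib.MaxSub.Extra
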